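import Cfsg.Agent.Lib.Spor.FischerTypes.Data24
import Cfsg.Agent.Lib.Spor.Fi24.Sys

/-!
The table for `Fi24`: generators acting as the table (part 0).
-/

set_option autoImplicit false
set_option Elab.async false
set_option maxRecDepth 100000

namespace CfsgLib.Spor.FischerTypes

open CfsgLib.Spor.Fi24 (sys)

theorem okGen24_0 : tableTwentyFour.okGen (fun a B => sys.act (Nat.add 3 a) B) 0 = true := by decide +kernel

theorem okGen24_1 : tableTwentyFour.okGen (fun a B => sys.act (Nat.add 3 a) B) 1 = true := by decide +kernel

theorem okGen24_2 : tableTwentyFour.okGen (fun a B => sys.act (Nat.add 3 a) B) 2 = true := by decide +kernel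

end CfsgLib.Spor.FischerTypes
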