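import Cfsg.Agent.Lib.Spor.FischerTypes.Data24
import Cfsg.Agent.Lib.Spor.Fi24.Sys

/-!
The table for `Fi24`: generators acting as the table (part 1).
-/

set_option autoImplicit false
set_option Elab.async false
set_option maxRecDepth 100000

namespace CfsgLib.Spor.FischerTypes

open CfsgLib.Spor.Fi24 (sys)

theorem okGen24_3 : tableTwentyFour.okGen (fun a B => sys.act (Nat.add 3 a) B) 3 = true := by decide +kernel

theorem okGen24_4 : tableTwentyFour.okGen (fun a B => sys.act (Nat.add 3 a) B) 4 = true := by decide +kernel

theorem okGen24_5 : tableTwentyFour.okGen (fun a B => sys.act (Nat.add 3 a) B) 5 = true := by decide +kernel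

end CfsgLib.Spor.FischerTypes
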