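import Cfsg.Agent.Lib.Spor.FischerTypes.Data24

/-!
The table for `Fi24`: the checks not involving the action on points.
-/

set_option autoImplicit false
set_option Elab.async false
set_option maxRecDepth 100000

namespace CfsgLib.Spor.FischerTypes

open CfsgLib.PresCert

theorem okIndex24 : allBelow tableTwentyFour.m (tableTwentyFour.okIndex 306936 9) = true := by decide +kernel

theorem okMove24 : allBelow tableTwentyFour.m (tableTwentyFour.okMove 9) = true := by decide +kernel

theorem okCode24 : allBelow 6561 tableTwentyFour.okCode = true := by decide +kernel

end CfsgLib.Spor.FischerTypes
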