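import Cfsg.Agent.Lib.Spor.FischerTypes.Kit
import Cfsg.Agent.Lib.ThreeTransp.ReflThree
import Cfsg.Agent.Lib.OmegaEightThree.Group
import Cfsg.Agent.Lib.Geometry.FormTransport

/-!
The derived group of a projective reflection group over the field with three elements is the simple orthogonal
group; the case of dimension eight and plus type.
-/

set_option autoImplicit false

namespace CfsgLib.Spor.FischerTypes

open QuadraticMap CfsgLib.Geometry CfsgLib.ThreeTransp

/-- a hyperbolic basis for four squares -/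
def hypFour (v : Fin 4 → ZMod 3) : Fin 4 → ZMod 3 :=
  v 0 • ![1, 1, 1, 0] + v 1 • ![1, 2, 0, 1] + v 2 • ![0, 1, 1, 1] + v 3 • ![1, 0, 2, 1]

theorem hypFour_sq : ∀ a b x y : ZMod 3,
    (∑ i : Fin 4, hypFour ![a, b, x, y] i * hypFour ![a, b, x, y] i) = a * x + b * y := by decide +kernel

/-- the linear map onto eight squares -/
def hypEight : (Fin 4 ⊕ Fin 4 → ZMod 3) →ₗ[ZMod 3] (Fin 8 → ZMod 3) where
  toFun v := Fin.append (hypFour ![v (.inl 0), v (.inl 1), v (.inr 0), v (.inr 1)])
    (hypFour ![v (.inl 2), v (.inl 3), v (.inr 2), v (.inr 3)])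
  map_add' u v := by
    funext k
    refine Fin.addCases (m := 4) (n := 4) (fun i => ?_) (fun i => ?_) k <;>
      simp only [Fin.append_left, Fin.append_right, Pi.add_apply, Pi.smul_apply] <;>
      fin_cases i <;> simp [hypFour] <;> ring
  map_smul' t v := by
    funext k
    refine Fin.addCases (m := 4) (n := 4) (fun i => ?_) (fun i => ?_) k <;>
      simp only [Fin.append_left, Fin.append_right, Pi.add_apply, Pi.smul_apply] <;>
      fin_cases i <;> simp [hypFour] <;> ring

theorem squares_hypEight (v : Fin 4 ⊕ Fin 4 → ZMod 3) :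
    ∑ i : Fin 8, hypEight v i * hypEight v i = Cfsg.quadFormPlus 4 (ZMod 3) v := by
  rw [show (∑ i : Fin 8, hypEight v i * hypEight v i) = ∑ i : Fin (4 + 4), hypEight v i * hypEight v i from rfl,
    Fin.sum_univ_add]
  simp only [hypEight, LinearMap.coe_mk, AddHom.coe_mk, Fin.append_left, Fin.append_right]
  rw [hypFour_sq, hypFour_sq]
  simp [Cfsg.quadFormPlus, Fin.sum_univ_four]
  ring

theorem hypEight_injective : Function.Injective hypEight := by
  have key : ∀ a b x y : ZMod 3, hypFour ![a, b, x, y] = 0 → a = 0 ∧ b = 0 ∧ x = 0 ∧ y = 0 := by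
    decide +kernel
  refine (injective_iff_map_eq_zero _).2 fun v hv => ?_
  have h1 : hypFour ![v (.inl 0), v (.inl 1), v (.inr 0), v (.inr 1)] = 0 := funext fun i => by
    have := congrFun hv (Fin.castAdd 4 i)
    simp only [hypEight, LinearMap.coe_mk, AddHom.coe_mk, Fin.append_left, Pi.zero_apply] at this
    exact this
  have h2 : hypFour ![v (.inl 2), v (.inl 3), v (.inr 2), v (.inr 3)] = 0 := funext fun i => by
    have := congrFun hv (Fin.natAdd 4 i)
    simp only [hypEight, LinearMap.coe_mk, AddHom.coe_mk, Fin.append_right, Pi.zero_apply] at this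
    exact this
  obtain ⟨a0, a1, b0, b1⟩ := key _ _ _ _ h1
  obtain ⟨a2, a3, b2, b3⟩ := key _ _ _ _ h2
  funext k
  rcases k with k | k <;> fin_cases k <;> assumption

theorem card_sq_one : Nat.card {t : ZMod 3 // t * t = 1} ≤ 2 := by
  rw [Nat.card_eq_fintype_card]
  decide

variable [Fact (Nat.Prime 3)] {n : ℕ} {Q : QuadraticForm (ZMod 3) (Fin n → ZMod 3)} {c : ZMod 3}

theorem map_commutator_eq_omega (hQ : (polarBilin Q).Nondegenerate) (hn : 5 ≤ n) (hc : c ≠ 0) :
    (commutator ↥(Cfsg.reflectionSubgroup (⇑Q) c)).map (Cfsg.reflectionSubgroup (⇑Q) c).subtype =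
      Cfsg.Omega (ZMod 3) ⇑Q := by
  let u : Cfsg.isometryGroup (ZMod 3) ⇑Q →* ((Fin n → ZMod 3) ≃ₗ[ZMod 3] (Fin n → ZMod 3)) :=
    (orth Q).subtype.comp (isomEquiv Q).toMonoidHom
  have hu : Function.Injective u := Subtype.val_injective.comp (isomEquiv Q).injective
  refine Subgroup.map_injective hu ?_
  rw [Subgroup.map_map, show u.comp (Cfsg.reflectionSubgroup (⇑Q) c).subtype = ReflThree.toLin Q c from rfl,
    ReflThree.map_commutator_refl hQ hn hc,
    show u = (orth Q).subtype.comp (isomEquiv Q).toMonoidHom from rfl, ← Subgroup.map_map, map_Omega,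
    commutator_eq_siegel hQ (le_trans (by norm_num) (ReflThree.rk hn)) (ReflThree.split hQ hn)
      (reflGroup_eq_orth_of_two_ne hQ ReflThree.two_ne)]
  exact (Subgroup.map_subgroupOf_eq_of_le fun x hx => siegelGroup_le_orth hx).symm

theorem derived_proj_refl (hQ : (polarBilin Q).Nondegenerate) (hn : 5 ≤ n) (hc : c ≠ 0) :
    Nonempty (↥(commutator (↥(Cfsg.reflectionSubgroup (⇑Q) c) ⧸
      Subgroup.center ↥(Cfsg.reflectionSubgroup (⇑Q) c))) ≃* Cfsg.POmega (ZMod 3) ⇑Q) := by
  set R := Cfsg.reflectionSubgroup (⇑Q) c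
  let ω : ↥(commutator ↥R) ≃* ↥(Cfsg.Omega (ZMod 3) ⇑Q) :=
    ((commutator ↥R).equivMapOfInjective R.subtype R.subtype_injective).trans
      (MulEquiv.subgroupCongr (map_commutator_eq_omega hQ hn hc))
  have hω : ∀ g : ↥(commutator ↥R), ((ω g : Cfsg.Omega (ZMod 3) ⇑Q) : Cfsg.isometryGroup (ZMod 3) ⇑Q) =
      ((g : R) : Cfsg.isometryGroup (ZMod 3) ⇑Q) := fun _ => rfl
  let mk := QuotientGroup.mk' (Subgroup.center ↥R)
  have hmap : (commutator ↥R).map mk = commutator (↥R ⧸ Subgroup.center ↥R) := by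
    rw [commutator_def, commutator_def, Subgroup.map_commutator,
      Subgroup.map_top_of_surjective _ (QuotientGroup.mk'_surjective _)]
  let f : ↥(commutator ↥R) →* ↥(commutator (↥R ⧸ Subgroup.center ↥R)) :=
    (MulEquiv.subgroupCongr hmap).toMonoidHom.comp (mk.subgroupMap (commutator ↥R))
  have hf : Function.Surjective f :=
    (MulEquiv.subgroupCongr hmap).surjective.comp (mk.subgroupMap_surjective _)
  have hker : f.ker = Subgroup.center ↥(commutator ↥R) := by
    ext g
    have hg : g ∈ f.ker ↔ (g : R) ∈ Subgroup.center ↥R := by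
      rw [MonoidHom.mem_ker, ← Subtype.val_inj]
      exact QuotientGroup.eq_one_iff _
    rw [hg]
    constructor
    · intro h
      exact Subgroup.mem_center_iff.2 fun x => Subtype.ext (Subgroup.mem_center_iff.1 h x)
    · intro h
      have h1 : ω g ∈ Subgroup.center ↥(Cfsg.Omega (ZMod 3) ⇑Q) := Subgroup.mem_center_iff.2 fun x => by
        obtain ⟨y, rfl⟩ := ω.surjective x
        rw [← map_mul, ← map_mul, Subgroup.mem_center_iff.1 h y]
      have h2 : omegaEquiv Q (ω g) ∈ Subgroup.center ↥(commutator (orth Q)) := Subgroup.mem_center_iff.2 fun x => by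
        obtain ⟨y, rfl⟩ := (omegaEquiv Q).surjective x
        rw [← map_mul, ← map_mul, Subgroup.mem_center_iff.1 h1 y]
      obtain ⟨t, -, ht⟩ := (mem_center_omega_iff hQ (ReflThree.rk hn) _).1 h2
      rw [Subgroup.mem_center_iff]
      intro x
      refine ReflThree.toLin_injective (LinearEquiv.ext fun v => ?_)
      have ht' : ∀ w, ReflThree.toLin Q c (g : R) w = t • w := fun w => ht w
      rw [map_mul, map_mul, LinearEquiv.mul_apply, LinearEquiv.mul_apply, ht', ht', map_smul]
  exact ⟨((QuotientGroup.quotientKerEquivOfSurjective f hf).symm.trans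
    (QuotientGroup.quotientMulEquivOfEq hker)).trans (centerQuotCongr ω)⟩

/-- the sum of eight squares is of plus type -/
theorem pOmega_eight (Q : QuadraticForm (ZMod 3) (Fin 8 → ZMod 3)) (hQ : ∀ u, Q u = ∑ i, u i * u i) :
    Nonempty (Cfsg.POmega (ZMod 3) ⇑Q ≃* Cfsg.POmega (ZMod 3) (Cfsg.quadFormPlus 4 (ZMod 3))) := by
  let E := LinearMap.linearEquivOfInjective hypEight hypEight_injective (by simp)
  let T : FormSim (Cfsg.quadFormPlus 4 (ZMod 3)) ⇑Q :=
    { equiv := E
      mult := 1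
      map_app := fun v => by
        rw [hQ, Units.val_one, one_mul, ← squares_hypEight]
        rfl }
  exact ⟨T.pomegaEquiv.symm⟩

theorem card_pOmega_plus : 4952179814400 ≤ Nat.card (Cfsg.POmega (ZMod 3) (Cfsg.quadFormPlus 4 (ZMod 3))) := by
  rw [← OmegaEightThree.qf_eq]
  set Q := Oct.Q (ZMod 3)
  have hQ := (Oct.evenHyp8 (F := ZMod 3)).nondeg
  have h := (Subgroup.center ↥(Cfsg.Omega (ZMod 3) ⇑Q)).card_mul_index
  rw [OmegaEightThree.card_omega, Subgroup.index_eq_card] at h
  have hz : Nat.card (Subgroup.center ↥(Cfsg.Omega (ZMod 3) ⇑Q)) ≤ 2 := by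
    have key : ∀ g : Subgroup.center ↥(Cfsg.Omega (ZMod 3) ⇑Q), ∃ t : {t : ZMod 3 // t * t = 1},
        ∀ v, ((omegaEquiv Q g.1 : orth Q) :
          (OmegaEightThree.I8 → ZMod 3) ≃ₗ[ZMod 3] (OmegaEightThree.I8 → ZMod 3)) v = t.1 • v := by
      intro g
      obtain ⟨t, ht, hv⟩ := (mem_center_omega_iff hQ (by simp) (omegaEquiv Q g.1)).1
        (Subgroup.mem_center_iff.2 fun x => by
          obtain ⟨y, rfl⟩ := (omegaEquiv Q).surjective x
          rw [← map_mul, ← map_mul, Subgroup.mem_center_iff.1 g.2 y])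
      exact ⟨⟨t, ht⟩, hv⟩
    choose t ht using key
    refine (Nat.card_le_card_of_injective t fun g g' e => ?_).trans card_sq_one
    exact Subtype.ext ((omegaEquiv Q).injective (Subtype.ext (Subtype.ext (LinearEquiv.ext fun v => by
      rw [ht, ht, e]))))
  have h' := Nat.mul_le_mul_right (Nat.card (↥(Cfsg.Omega (ZMod 3) ⇑Q) ⧸
    Subgroup.center ↥(Cfsg.Omega (ZMod 3) ⇑Q))) hz
  rw [h] at h'
  exact le_of_mul_le_mul_left (by linarith) (show 0 < 2 by norm_num)

end CfsgLib.Spor.FischerTypes
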