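import Cfsg.Agent.Lib.Spor.FischerTypes.Data23
import Cfsg.Agent.Lib.Spor.Fi23.PermData
import Cfsg.Agent.Lib.Spor.Fi23.PermZData

/-!
The table for `Fi23`: checks.
-/

set_option autoImplicit false
set_option Elab.async false
set_option maxRecDepth 100000

namespace CfsgLib.Spor.FischerTypes

open CfsgLib.PresCert

/-- the evaluation of a word -/
noncomputable def app23 : List ℕ → ℕ → ℕ := Wide.PermData.app Fi23.Perm.data

/-- the image under the central element -/
noncomputable def zimg23 (i : ℕ) : ℕ := Fi23.Perm.zData.img 2 i

theorem okPts23 : tableTwentyThree.okPts 10 Fi23.Perm.data.n app23 = true := by decide +kernel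

theorem okOps23 : tableTwentyThree.okOps app23 zimg23 = true := by decide +kernel

theorem okScan23 : tableTwentyThree.okScan Fi23.Perm.data.n app23 zimg23 = true := by decide +kernel

theorem okApart23 : tableTwentyThree.okApart app23 zimg23 = true := by decide +kernel

theorem okSteps23 : tableTwentyThree.okSteps tableTwentyThree.gens tableTwentyThree.steps = true := by
  decide +kernel

theorem okVecs23 : tableTwentyThree.okVecs = true := by decide +kernel

end CfsgLib.Spor.FischerTypes
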