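import Cfsg.Agent.Lib.Spor.FischerTypes.M22
import Cfsg.Agent.Lib.Spor.FischerTypes.Tab23
import Cfsg.Agent.Lib.Spor.Fi23.Transpositions
import Cfsg.Agent.Lib.Spor.Fi23.OutPoints

/-!
The presented Fischer group `Fi₂₃` is of type M(23).
-/

set_option autoImplicit false
set_option maxRecDepth 100000

namespace CfsgLib.Spor.FischerTypes

open CfsgLib.PresCert Cfsg.Spor
open CfsgLib.Spor.Fi23 (π π_gen π_z idx gen H i₀ z hGens hgen lift zH)
open CfsgLib.Spor.Fi23.Auto (wordEl π_wordEl wordEl_inv gpt dq dq_gpt elPt)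

/-- the transpositions of `Fi₂₃` as points -/
noncomputable def cls23 : PointClass Cfsg.Spor.Fi23 Fi23.Perm.data.n where
  π := π
  z := z
  i₀ := i₀
  trans := Fi23.transitive
  stab _ := ⟨fun h => Fi23.Auto.z_comm_mem (Fi23.Auto.mem_H_of_fix h), Fi23.Auto.fix_of_z_comm⟩

theorem tp_eq_dq (p : Fin Fi23.Perm.data.n) : cls23.tp p = dq p := by
  obtain ⟨g, rfl⟩ := Fi23.transitive p
  exact (cls23.tp_of_eq (g := g) rfl).trans (Fi23.Auto.dq_of_eq (g := g) rfl).symm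

theorem word23 (u : List ℕ) (hu : ∀ k ∈ u, k < 10) :
    ∃ x : Cfsg.Spor.Fi23, (∀ i : Fin Fi23.Perm.data.n, ((π x i : Fin _) : ℕ) = app23 u i) ∧
      ∀ i : Fin Fi23.Perm.data.n, ((π x⁻¹ i : Fin _) : ℕ) = app23 u.reverse i :=
  ⟨wordEl u, π_wordEl hu, fun i => by
    rw [wordEl_inv]
    exact π_wordEl (fun k hk => hu k (List.mem_reverse.1 hk)) i⟩

theorem form23_nondeg : (QuadraticMap.polarBilin (formC 7 tableTwentyThree)).Nondegenerate ∧
    Cfsg.polarGramDet (⇑(formC 7 tableTwentyThree)) = -((tableTwentyThree.norm : ℕ) : ZMod 3) := by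
  let w : Fin 7 → ZMod 3 := fun k => (tableTwentyThree.weights.getD k 0 : ℕ)
  have hw : ∀ k : Fin 7, (2 * w k) * (2 * w k) = 1 := by decide +kernel
  have hs : ∀ x : Fin 7 → ZMod 3, ∀ k : Fin 7,
      QuadraticMap.polar (formC 7 tableTwentyThree) x (Pi.single k 1) = 2 * w k * x k := fun x k => by
    rw [polar_formC]
    simp [Pi.single_apply, w]
    ring
  have hz : ∀ (x : Fin 7 → ZMod 3) (k : Fin 7), 2 * w k * x k = 0 → x k = 0 := fun x k h => by
    rw [← one_mul (x k), ← hw k, mul_assoc, h, mul_zero]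
  refine ⟨⟨fun x hx => funext fun k => ?_, fun y hy => funext fun k => ?_⟩, ?_⟩
  · have h := hx (Pi.single k 1)
    rw [QuadraticMap.polarBilin_apply_apply, hs] at h
    exact hz x k h
  · have h := hy (Pi.single k 1)
    rw [QuadraticMap.polarBilin_apply_apply, QuadraticMap.polar_comm, hs] at h
    exact hz y k h
  · have hm : (Matrix.of fun i j : Fin 7 => QuadraticMap.polar (⇑(formC 7 tableTwentyThree))
        (Pi.single i 1) (Pi.single j 1)) = Matrix.diagonal fun i => 2 * w i := by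
      ext i j
      rw [Matrix.of_apply, hs, Matrix.diagonal_apply, Pi.single_apply]
      by_cases h : i = j
      · subst h; simp
      · simp [h, Ne.symm h]
    rw [Cfsg.polarGramDet, hm, Matrix.det_diagonal]
    decide +kernel

theorem gpt_ne : ∀ x : Fi23.Gen, x ∈ hGens → elPt (idx x) ≠ 0 := by
  intro x _
  cases x <;> decide +kernel

theorem gen_nb {x : Fi23.Gen} (hx : x ∈ hGens) :
    gen x ∈ {y : Cfsg.Spor.Fi23 | y ∈ conjugatesOf z ∧ y ≠ z ∧ Commute z y} := by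
  refine ⟨?_, fun e => gpt_ne x hx ?_, (Fi23.z_comm x hx).symm⟩
  · rw [← dq_gpt, ← tp_eq_dq]
    exact cls23.range_tp ▸ ⟨_, rfl⟩
  · rw [← dq_gpt, ← tp_eq_dq] at e
    exact congrArg Fin.val (cls23.tp_injective (e.trans cls23.tp_base.symm))

theorem nb_closure23 :
    Subgroup.closure {y : Cfsg.Spor.Fi23 | y ∈ conjugatesOf z ∧ y ≠ z ∧ Commute z y} = H := by
  refine le_antisymm ?_ ((Subgroup.closure_le _).2 ?_)
  · rw [← Fi23.centralizer_z, Subgroup.closure_le]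
    exact fun y hy => Subgroup.mem_centralizer_singleton_iff.2 hy.2.2.eq.symm
  · rintro _ ⟨x, hx, rfl⟩
    exact Subgroup.subset_closure (gen_nb hx)

theorem orbit_a : ∀ q : Fin Fi23.Perm.data.n, q ≠ i₀ → π z q = q → ∃ h ∈ H, π h (gpt .a) = q := by
  intro q hq hz
  have key : ∀ r : Fin Fi23.Perm.data.n, r ≠ i₀ → π z r = r →
      ∃ h ∈ H, π h ⟨Fi23.Perm.sub1.base, by rw [Fi23.sub_facts.2.2.2.1, Fi23.degree]; decide⟩ = r := by
    intro r hr hzr
    rcases Fi23.point_cases r with e | ⟨h, hh, e⟩ | h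
    · exact absurd e hr
    · exfalso
      rw [← e, ← Equiv.Perm.mul_apply, ← map_mul, ← Fi23.z_comm_H h hh, map_mul,
        Equiv.Perm.mul_apply, EmbeddingLike.apply_eq_iff_eq] at hzr
      have e1 := congrArg Fin.val hzr
      rw [π_z] at e1
      change Fi23.Perm.zData.img 2 Fi23.Perm.sub0.base = Fi23.Perm.sub0.base at e1
      rw [Fi23.sub_facts.2.2.1] at e1
      have hm := Fi23.Perm.z_moves
      rw [e1] at hm
      exact absurd hm (by decide)
    · exact h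
  have hga : π z (gpt .a) = gpt .a := by
    have h := Fi23.z_comm .a (by decide)
    rw [← dq_gpt .a] at h
    exact (Fi23.Auto.comm_dq_iff _ _).1 h.symm
  obtain ⟨h, hh, e⟩ := key q hq hz
  obtain ⟨h', hh', e'⟩ := key (gpt .a) (fun e => gpt_ne .a (by decide) (congrArg Fin.val e)) hga
  exact ⟨h * h'⁻¹, H.mul_mem hh (H.inv_mem hh'), by
    rw [map_mul, map_inv, Equiv.Perm.mul_apply, ← e']
    show π h ((π h').symm (π h' _)) = q
    rw [Equiv.symm_apply_apply, e]⟩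

/-- the smaller group is the subgroup modulo its centre -/
theorem exists_quot_equiv : ∃ e : Cfsg.Spor.Fi22 ≃* H ⧸ Subgroup.center H,
    ∀ x, e (Fi22.gen x) = QuotientGroup.mk (hgen x) := by
  haveI := Fi23.finite
  haveI := Fi22.finite
  let φ := Fi23.toQuot (Subgroup.center H) Fi23.zH_central
  have hcard : Nat.card (H ⧸ Subgroup.center H) = Nat.card Cfsg.Spor.Fi22 := by
    have h := (Subgroup.center H).card_mul_index
    rw [Fi23.center_eq, Fi23.card_zpowers, Fi23.card_H, Subgroup.index_eq_card, ← Fi23.center_eq] at h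
    rw [Fi22.natCard]
    omega
  exact ⟨MulEquiv.ofBijective φ
    ((Nat.bijective_iff_surjective_and_card φ).2 ⟨Fi23.toQuot_surjective _ _, hcard.symm⟩),
    fun x => by simp [φ, Fi23.toQuot, Fi22.gen, pgen]⟩

theorem norm23_ne : ((tableTwentyThree.norm : ℕ) : ZMod 3) ≠ 0 := by decide

theorem typeM22_nb :
    Cfsg.IsOfTypeM22
      (↥(Subgroup.closure {y : Cfsg.Spor.Fi23 | y ∈ conjugatesOf z ∧ y ≠ z ∧ Commute z y}) ⧸
        Subgroup.center ↥(Subgroup.closure {y : Cfsg.Spor.Fi23 | y ∈ conjugatesOf z ∧ y ≠ z ∧ Commute z y}))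
      ((QuotientGroup.mk : ↥(Subgroup.closure {y : Cfsg.Spor.Fi23 | y ∈ conjugatesOf z ∧ y ≠ z ∧ Commute z y}) → _) ''
        {x : ↥(Subgroup.closure {y : Cfsg.Spor.Fi23 | y ∈ conjugatesOf z ∧ y ≠ z ∧ Commute z y}) |
          (x : Cfsg.Spor.Fi23) ∈ {y : Cfsg.Spor.Fi23 | y ∈ conjugatesOf z ∧ y ≠ z ∧ Commute z y}}) := by
  obtain ⟨e, he⟩ := exists_quot_equiv
  set S := {y : Cfsg.Spor.Fi23 | y ∈ conjugatesOf z ∧ y ≠ z ∧ Commute z y}
  let k : H ≃* ↥(Subgroup.closure S) := MulEquiv.subgroupCongr nb_closure23.symm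
  have hk : ∀ w : H, ((k w : ↥(Subgroup.closure S)) : Cfsg.Spor.Fi23) = w := fun _ => rfl
  let E := e.trans (centerQuotCongr k)
  have hE : ∀ (u : Cfsg.Spor.Fi22) (w : H), e u = QuotientGroup.mk w →
      E u = QuotientGroup.mk (k w) := fun u w h => by
    show centerQuotCongr k (e u) = _
    rw [h]
    rfl
  have himg : (QuotientGroup.mk : ↥(Subgroup.closure S) → _) '' {x | (x : Cfsg.Spor.Fi23) ∈ S} =
      E '' conjugatesOf Fi22.Transp.ga := by
    ext y
    constructor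
    · rintro ⟨x, hx, rfl⟩
      obtain ⟨hxc, hxne, hxz⟩ : (x : Cfsg.Spor.Fi23) ∈ conjugatesOf z ∧ (x : Cfsg.Spor.Fi23) ≠ z ∧
        Commute z (x : Cfsg.Spor.Fi23) := hx
      obtain ⟨q, hq⟩ : (x : Cfsg.Spor.Fi23) ∈ Set.range cls23.tp := cls23.range_tp.symm ▸ hxc
      have hq0 : q ≠ i₀ := fun h => hxne (by rw [← hq, h]; exact cls23.tp_base)
      obtain ⟨h, hh, hhq⟩ := orbit_a q hq0 ((cls23.commute_tp_iff z q).1 (by rw [hq]; exact hxz))
      obtain ⟨u, hu⟩ := e.surjective (QuotientGroup.mk (⟨h, hh⟩ : H))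
      refine ⟨u * Fi22.Transp.ga * u⁻¹, isConj_iff.2 ⟨u, rfl⟩, ?_⟩
      rw [hE _ ((⟨h, hh⟩ : H) * hgen .a * (⟨h, hh⟩ : H)⁻¹) (by
        rw [map_mul, map_mul, map_inv, hu, show Fi22.Transp.ga = Fi22.gen .a from rfl, he]; rfl)]
      refine congrArg _ (Subtype.ext ?_)
      rw [hk, ← hq, tp_eq_dq, ← hhq, ← Fi23.Auto.conj_dq, dq_gpt]
      rfl
    · rintro ⟨_, hc, rfl⟩
      obtain ⟨u, rfl⟩ := isConj_iff.1 hc
      obtain ⟨h, hu⟩ := QuotientGroup.mk_surjective (e u)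
      refine ⟨k (h * hgen .a * h⁻¹), ?_, (hE _ _ (by rw [map_mul, map_mul, map_inv, ← hu, show Fi22.Transp.ga = Fi22.gen .a from rfl, he]; rfl)).symm⟩
      obtain ⟨hac, hane, haz⟩ := gen_nb (x := .a) (by decide)
      have hzh : (h : Cfsg.Spor.Fi23) * z * (h : Cfsg.Spor.Fi23)⁻¹ = z := by
        rw [Fi23.z_comm_H h h.2, mul_inv_cancel_right]
      show (h : Cfsg.Spor.Fi23) * gen .a * (h : Cfsg.Spor.Fi23)⁻¹ ∈ S
      refine ⟨hac.trans (isConj_iff.2 ⟨_, rfl⟩), fun e' => hane ?_, ?_⟩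
      · exact mul_left_cancel (mul_right_cancel (e'.trans hzh.symm))
      · have := haz.map (MulAut.conj (h : Cfsg.Spor.Fi23)).toMonoidHom
        simpa [hzh] using this
  rw [himg]
  exact typeM22_congr E _ typeM22.1

theorem typeM23 : Cfsg.IsOfTypeM23 Cfsg.Spor.Fi23 (conjugatesOf z) ∧
    Cfsg.IsPrimitiveUnderConj (conjugatesOf z) := by
  haveI := Fi23.finite
  haveI : Fact (Nat.Prime 3) := ⟨Nat.prime_three⟩
  haveI := Fi23.isFi23.1
  obtain ⟨hprim, hz⟩ := primitive_of_simple Fi23.three_transposition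
    ⟨z, gen .j, fun h => by
      have e := congrArg (fun σ : Equiv.Perm _ => ((σ i₀ : Fin _) : ℕ)) (congrArg π h)
      simp only [map_mul, Equiv.Perm.mul_apply, π_gen, π_z] at e
      exact absurd e (by decide +kernel)⟩
  obtain ⟨c, hc, hdc, ⟨e⟩⟩ := table_sound 7 tableTwentyThree cls23 rfl app23 zimg23
    π_z word23 rfl (Or.inr rfl) okPts23 okOps23 okScan23 okApart23 okSteps23 okVecs23
  exact ⟨⟨hz, z, mem_conjugatesOf_self, c, hc, hdc, typeM22_nb, ((tableTwentyThree.norm : ℕ) : ZMod 3),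
    norm23_ne, formC 7 tableTwentyThree, form23_nondeg.1, form23_nondeg.2, ⟨e⟩⟩, hprim⟩

end CfsgLib.Spor.FischerTypes
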