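import Cfsg.Agent.Lib.Spor.FischerTypes.Kit

/-!
The type M(23) passes along isomorphisms.
-/

set_option autoImplicit false

namespace CfsgLib.Spor.FischerTypes

variable {G G' : Type*} [Group G] [Group G']

theorem center_eq_bot_congr (e : G ≃* G') (h : Subgroup.center G = ⊥) : Subgroup.center G' = ⊥ := by
  rw [Subgroup.eq_bot_iff_forall]
  intro y hy
  obtain ⟨x, rfl⟩ := e.surjective y
  have : x ∈ Subgroup.center G := Subgroup.mem_center_iff.2 fun w => e.injective (by
    rw [map_mul, map_mul]; exact Subgroup.mem_center_iff.1 hy (e w))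
  rw [h, Subgroup.mem_bot] at this
  rw [this, map_one]

/-- the quotients by the centres of the groups generated by a set and by its image -/
noncomputable def quotCongr (e : G ≃* G') {S : Set G} {S' : Set G'} (h : e '' S = S') :
    ↥(Subgroup.closure S) ⧸ Subgroup.center ↥(Subgroup.closure S) ≃*
      ↥(Subgroup.closure S') ⧸ Subgroup.center ↥(Subgroup.closure S') :=
  centerQuotCongr ((closureCongr e S).trans (MulEquiv.subgroupCongr (congrArg Subgroup.closure h)))

theorem image_quotCongr (e : G ≃* G') {S : Set G} {S' : Set G'} (h : e '' S = S') :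
    quotCongr e h '' ((QuotientGroup.mk : ↥(Subgroup.closure S) → _) '' {x | (x : G) ∈ S}) =
      (QuotientGroup.mk : ↥(Subgroup.closure S') → _) '' {x | (x : G') ∈ S'} := by
  let k := (closureCongr e S).trans (MulEquiv.subgroupCongr (congrArg Subgroup.closure h))
  have hk : ∀ x, ((k x : ↥(Subgroup.closure S')) : G') = e (x : G) := fun _ => rfl
  have hmk : ∀ x, quotCongr e h (QuotientGroup.mk x) = QuotientGroup.mk (k x) := fun _ => rfl
  ext y
  constructor
  · rintro ⟨_, ⟨x, hx, rfl⟩, rfl⟩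
    exact ⟨k x, by rw [Set.mem_setOf_eq, hk]; exact h.le ⟨_, hx, rfl⟩, (hmk x).symm⟩
  · rintro ⟨x', hx', rfl⟩
    obtain ⟨x, rfl⟩ := k.surjective x'
    refine ⟨_, ⟨x, ?_, rfl⟩, hmk x⟩
    have : e (x : G) ∈ e '' S := h.ge (show e (x : G) ∈ S' by rw [← hk]; exact hx')
    exact (e.injective.mem_set_image).1 this

theorem typeM23_congr (e : G ≃* G') (D : Set G) (h : Cfsg.IsOfTypeM23 G D) :
    Cfsg.IsOfTypeM23 G' (e '' D) := by
  obtain ⟨hz, d, hd, c, hc, hdc, h22, c₃, h3, Q, hQ, hdet, ⟨v⟩⟩ := h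
  have hH := (image_nb e D d).symm
  have hL : e '' ({y : G | y ∈ D ∧ y ≠ d ∧ Commute d y} ∩ {y : G | y ∈ D ∧ y ≠ c ∧ Commute c y}) =
      {y : G' | y ∈ e '' D ∧ y ≠ e d ∧ Commute (e d) y} ∩ {y : G' | y ∈ e '' D ∧ y ≠ e c ∧ Commute (e c) y} := by
    rw [image_nb e D d, image_nb e D c, ← Set.image_inter e.injective]
  refine ⟨center_eq_bot_congr e hz, e d, ⟨d, hd, rfl⟩, e c, ⟨c, hc, rfl⟩,
    fun h => hdc (e.injective (by rw [map_mul, map_mul]; exact h)), ?_, c₃, h3, Q, hQ, hdet,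
    ⟨(quotCongr e hL).symm.trans v⟩⟩
  rw [← image_quotCongr e hH]
  exact typeM22_congr (quotCongr e hH) _ h22

end CfsgLib.Spor.FischerTypes
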