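import Cfsg.Agent.Lib.Spor.FischerTypes.Check
import Cfsg.Agent.Lib.Spor.FischerTypes.Plus8

/-!
A class of transpositions with the table of the reflections of eight-dimensional plus type over the field with
three elements, and one further transposition moving it: in a group of the right order they generate `PΩ⁺(8, 3)`
extended by the symmetric group on three letters.
-/

set_option autoImplicit false
set_option maxRecDepth 100000

namespace CfsgLib.Spor.FischerTypes

open CfsgLib.PresCert

/-- the data of the three blocks -/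
structure TrioData where
  m : ℕ
  pts : BTree
  codes : BTree
  codeInv : BTree
  sorted : BTree
  rank : BTree
  ops : List BTree
  parent : BTree
  parentGen : BTree

/-- eight squares -/
def eightData : TableData where
  pc := 0
  pcWord := []
  pts := []
  ptWords := []
  gens := []
  ops := []
  steps := []
  codes := []
  weights := [1, 1, 1, 1, 1, 1, 1, 1]
  norm := 1

namespace TrioData

variable (D : TrioData)

/-- the image of an index under a generator -/
noncomputable def op (a i : ℕ) : ℕ := (D.ops.getD a (.leaf 0)).half i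

/-- a point of the first block -/
noncomputable def pt (i : ℕ) : ℕ := D.pts.word i

/-- the vectors, the order and the tree at an index -/
noncomputable def okIndex (n g i : ℕ) : Bool :=
  Nat.blt (D.pt i) n && Nat.blt (D.codes.half i) 6561 && Nat.beq (eightData.qN (D.codes.half i)) 1 &&
    Nat.beq (D.codeInv.half (D.codes.half i)) i && Nat.beq (D.codeInv.half (eightData.negC (D.codes.half i))) i &&
    Nat.blt (D.rank.half i) D.m && Nat.beq (D.sorted.half (D.rank.half i)) i &&
    (Nat.ble D.m (Nat.add i 1) || Nat.blt (D.pt (D.sorted.half i)) (D.pt (D.sorted.half (Nat.add i 1)))) &&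
    (Nat.blt i g || (Nat.blt (D.parent.half i) i && Nat.blt (D.parentGen.half i) g &&
      Nat.beq (D.op (D.parentGen.half i) (D.parent.half i)) i))

/-- the generators on the vectors at an index -/
noncomputable def okMove (g i : ℕ) : Bool :=
  (List.range g).all fun a =>
    Nat.blt (D.op a i) D.m &&
      (Nat.beq (eightData.reflC (D.codes.half i) (D.codes.half a)) (D.codes.half (D.op a i)) ||
        Nat.beq (eightData.reflC (D.codes.half i) (D.codes.half a)) (eightData.negC (D.codes.half (D.op a i))))

/-- a place in the increasing order -/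
noncomputable def place (k : ℕ) : ℕ := D.pt (D.sorted.half k)

/-- the selected places from `lo` on, relative to the first of them -/
noncomputable def slab (sel : ℕ → Bool) (d : ℕ) : ℕ → ℕ :=
  Nat.rec (motive := fun _ => ℕ → ℕ)
    (fun lo => bif Nat.blt lo D.m && sel (D.sorted.half lo) then 1 else 0)
    (fun k ih lo => bif Nat.blt (Nat.add lo (Nat.shiftLeft 1 k)) D.m then
      Nat.lor (ih lo) (Nat.shiftLeft (ih (Nat.add lo (Nat.shiftLeft 1 k)))
        (Nat.sub (D.place (Nat.add lo (Nat.shiftLeft 1 k))) (D.place lo)))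
      else ih lo) d

/-- the set of the points with a selected index -/
noncomputable def setOf (sel : ℕ → Bool) : ℕ := Nat.shiftLeft (D.slab sel 11 0) (D.place 0)

/-- the selection of a binary digit -/
noncomputable def digit (b : ℕ) (i : ℕ) : Bool := Nat.beq (Nat.land (Nat.shiftRight i b) 1) 1

/-- the generator acts as the table -/
noncomputable def okGen (gact : ℕ → ℕ → ℕ) (a : ℕ) : Bool :=
  Nat.ble D.m 2048 &&
    Nat.beq (gact a (D.setOf fun _ => true)) (D.setOf fun _ => true) &&
    (List.range 11).all fun b =>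
      Nat.beq (gact a (D.setOf (digit b))) (D.setOf fun i => digit b (D.op a i))

/-- every vector of norm one occurs -/
noncomputable def okCode (x : ℕ) : Bool :=
  bif Nat.beq (eightData.qN x) 1 then
    Nat.blt (D.codeInv.half x) D.m && (Nat.beq (D.codes.half (D.codeInv.half x)) x ||
      Nat.beq (eightData.negC (D.codes.half (D.codeInv.half x))) x)
  else true

end TrioData

theorem polar_eightData (x y : Fin 8 → ZMod 3) :
    QuadraticMap.polar (formC 8 eightData) x y = 2 * ∑ k : Fin 8, x k * y k := by
  rw [polar_formC]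
  congr 1
  refine Finset.sum_congr rfl fun k _ => ?_
  fin_cases k <;> simp [eightData]

theorem formC_eightData (x : Fin 8 → ZMod 3) : formC 8 eightData x = ∑ k : Fin 8, x k * x k := by
  rw [formC_apply]
  refine Finset.sum_congr rfl fun k _ => ?_
  fin_cases k <;> simp [eightData]

theorem eight_nondeg : (QuadraticMap.polarBilin (formC 8 eightData)).Nondegenerate := by
  have hs : ∀ x : Fin 8 → ZMod 3, ∀ k : Fin 8,
      QuadraticMap.polar (formC 8 eightData) x (Pi.single k 1) = 2 * x k := fun x k => by
    rw [polar_eightData]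
    simp [Pi.single_apply]
  have h22 : (2 : ZMod 3) * 2 = 1 := by decide
  refine ⟨fun x hx => funext fun k => ?_, fun y hy => funext fun k => ?_⟩
  · have h := hx (Pi.single k 1)
    rw [QuadraticMap.polarBilin_apply_apply, hs] at h
    rw [← one_mul (x k), ← h22, mul_assoc, h, mul_zero]
    rfl
  · have h := hy (Pi.single k 1)
    rw [QuadraticMap.polarBilin_apply_apply, QuadraticMap.polar_comm, hs] at h
    rw [← one_mul (y k), ← h22, mul_assoc, h, mul_zero]
    rfl

/-- the derived groups of isomorphic groups -/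
noncomputable def commutatorCongr {A B : Type*} [Group A] [Group B] (e : A ≃* B) :
    ↥(commutator A) ≃* ↥(commutator B) :=
  (e.subgroupMap _).trans (MulEquiv.subgroupCongr (by
    show (commutator A).map e.toMonoidHom = _
    rw [commutator_def, commutator_def, Subgroup.map_commutator,
      Subgroup.map_top_of_surjective _ e.surjective]))

/-- a group of order at most six times the order of a big simple quotient of the derived group of a subgroup,
with a braiding involution outside the subgroup -/
theorem small_extension {X P : Type*} [Group X] [Finite X] [Group P] [IsSimpleGroup P] (M : Subgroup X)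
    (b : ↥(commutator ↥M) →* P) (hb : Function.Surjective b) (hP : 4952179814400 ≤ Nat.card P)
    (hX : Nat.card X ≤ 29713078886400) (u v : X) (hu : u ∈ M) (hv : v ∉ M) (huu : u * u = 1) (hvv : v * v = 1)
    (hbr : u * v * u = v * u * v) :
    29713078886400 ≤ Nat.card X ∧ ∃ (N : Subgroup (X ⧸ Subgroup.center X)) (_ : N.Normal),
      Nonempty (↥N ≃* P) ∧ Nonempty ((X ⧸ Subgroup.center X) ⧸ N ≃* Equiv.Perm (Fin 3)) := by
  classical
  haveI : Finite P := Finite.of_surjective b hb
  set K := M.normalCore with hK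
  have hPM : Nat.card P ≤ Nat.card ↥M :=
    (Nat.card_le_card_of_surjective b hb).trans (Subgroup.card_le_card_group _)
  have hk : M.index ≤ 6 := by
    have h := M.card_mul_index
    nlinarith
  have hKi : K.index ≤ 720 := by
    rw [hK, Subgroup.normalCore_eq_ker, Subgroup.index_ker]
    refine (Subgroup.card_le_card_group _).trans ?_
    rw [Nat.card_perm, ← Subgroup.index_eq_card]
    exact (Nat.factorial_le hk).trans (by decide)
  let J : Subgroup ↥(commutator ↥M) := (K.subgroupOf M).subgroupOf (commutator ↥M)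
  have hJ : J.map b = ⊤ := by
    haveI : (K.subgroupOf M).Normal := Subgroup.Normal.subgroupOf inferInstance M
    haveI hJn : J.Normal := Subgroup.Normal.subgroupOf inferInstance _
    refine ((hJn.map b hb).eq_bot_or_eq_top).resolve_left fun h => ?_
    rw [Subgroup.map_eq_bot_iff] at h
    have h1 : Nat.card P ≤ J.index := by
      rw [← Subgroup.card_top (G := P), ← MonoidHom.range_eq_top.2 hb, ← Subgroup.index_ker b]
      exact Nat.le_of_dvd (Nat.pos_of_ne_zero Subgroup.index_ne_zero_of_finite) (Subgroup.index_dvd_of_le h)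
    have h2 : J.index ≤ K.index := by
      refine (Subgroup.relIndex_le_of_le_right (H := K.subgroupOf M) le_top ?_).trans ?_
      · exact Subgroup.index_ne_zero_of_finite ∘ (Subgroup.relIndex_top_right _).symm.trans
      · rw [Subgroup.relIndex_top_right]
        refine (Subgroup.relIndex_le_of_le_right (H := K) le_top ?_).trans (Subgroup.relIndex_top_right K).le
        exact Subgroup.index_ne_zero_of_finite ∘ (Subgroup.relIndex_top_right _).symm.trans
    omega
  let ι : ↥J →* ↥K :=
    MonoidHom.mk' (fun j => ⟨(((j : ↥(commutator ↥M)) : ↥M) : X), j.2⟩) fun _ _ => rfl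
  have hι : Function.Injective ι := fun a c e => Subtype.ext (Subtype.ext (Subtype.ext (congrArg Subtype.val e :)))
  let bJ : ↥J →* P := b.comp J.subtype
  have hbJ : Function.Surjective bJ := by
    rw [← MonoidHom.range_eq_top, MonoidHom.range_comp, Subgroup.range_subtype, hJ]
  have hJP := Nat.card_le_card_of_surjective bJ hbJ
  have hJK := Nat.card_le_card_of_injective ι hι
  have hKX := K.card_mul_index
  have hv' : v ∉ K := fun h => hv (Subgroup.normalCore_le M h)
  set q := QuotientGroup.mk' K with hq
  have h1v : q v ≠ 1 := fun h => hv' ((QuotientGroup.eq_one_iff v).1 h)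
  have hub : q u * q v * q u = q v * q u * q v := by rw [← map_mul, ← map_mul, hbr, map_mul, map_mul]
  have hvb : q v * q v = 1 := by rw [← map_mul, hvv, map_one]
  have huq : q u * q u = 1 := by rw [← map_mul, huu, map_one]
  have hncomm : q v * q u ≠ q u * q v := fun h => by
    rw [← h, mul_assoc, huq, mul_one] at hub
    rw [mul_assoc, ← h, ← mul_assoc, hvb, one_mul] at hub
    -- the two involutions agree
    have hvM : v ∈ M := by
      have h2 : u⁻¹ * v ∈ K := QuotientGroup.eq.1 hub.symm
      simpa using M.mul_mem hu (Subgroup.normalCore_le M h2)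
    exact hv hvM
  have hcQ : Nat.card (X ⧸ K) = K.index := (Subgroup.index_eq_card K).symm
  have hQ6 : K.index = 6 := by
    have hle : K.index ≤ 6 := by nlinarith
    by_contra hne
    have hlt : K.index = 1 ∨ K.index = 2 ∨ K.index = 3 ∨ K.index = 4 ∨ K.index = 5 := by
      have := Subgroup.index_ne_zero_of_finite (H := K)
      omega
    haveI : Finite (X ⧸ K) := inferInstance
    have hord : orderOf (q u * q v) = 3 := by
      refine orderOf_eq_prime ?_ fun h => hncomm ?_
      · calc (q u * q v) ^ 3 = (q u * q v * q u) * (q v * q u * q v) := by simp [pow_succ, mul_assoc]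
          _ = (q u * q v * q u) * (q u * q v * q u) := by rw [hub]
          _ = q u * (q v * (q u * q u) * q v) * q u := by group
          _ = 1 := by rw [huq, mul_one, hvb, mul_one, huq]
      · rw [(mul_eq_one_iff_eq_inv.1 h)]
        simp
    have hou : orderOf (q u) = 2 := orderOf_eq_prime (by rw [pow_two]; exact huq) fun h => hncomm (by rw [h]; simp)
    have h2 := orderOf_dvd_natCard (q u)
    have h3 := orderOf_dvd_natCard (q u * q v)
    rw [hord, hcQ] at h3
    rw [hou, hcQ] at h2
    omega
  have hKP : Nat.card ↥K = Nat.card P := by rw [hQ6] at hKX; omega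
  have hιb : Function.Bijective ι := (Nat.bijective_iff_injective_and_card ι).2 ⟨hι, by omega⟩
  have hbb : Function.Bijective bJ := (Nat.bijective_iff_surjective_and_card bJ).2 ⟨hbJ, by omega⟩
  let eK : ↥K ≃* P := (MulEquiv.ofBijective ι hιb).symm.trans (MulEquiv.ofBijective bJ hbb)
  -- the symmetric group
  let S : Subgroup (X ⧸ K) := Subgroup.zpowers (q u)
  have hS : Nat.card ↥S = 2 := by
    rw [Nat.card_zpowers]
    exact orderOf_eq_prime (by rw [pow_two]; exact huq) fun h => hncomm (by rw [h]; simp)
  have hSi : Nat.card ((X ⧸ K) ⧸ S) = 3 := by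
    have h := S.card_mul_index
    rw [hS, hcQ, hQ6, Subgroup.index_eq_card] at h
    omega
  let e3 : (X ⧸ K) ⧸ S ≃ Fin 3 := (Finite.equivFin _).trans (finCongr hSi)
  let φ : (X ⧸ K) →* Equiv.Perm (Fin 3) := (Equiv.permCongrHom e3).toMonoidHom.comp (MulAction.toPermHom _ _)
  have hφ : Function.Injective φ := by
    refine (Equiv.permCongrHom e3).injective.comp ?_
    rw [← MonoidHom.ker_eq_bot_iff, ← Subgroup.normalCore_eq_ker, Subgroup.eq_bot_iff_forall]
    intro x hx
    obtain ⟨k, rfl⟩ := Subgroup.mem_zpowers_iff.1 (Subgroup.normalCore_le S hx)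
    rcases Int.even_or_odd k with ⟨j, rfl⟩ | ⟨j, rfl⟩
    · rw [zpow_add, ← (Commute.refl (q u)).mul_zpow, huq, one_zpow]
    · exfalso
      rw [zpow_add, zpow_one, zpow_mul, zpow_two, huq, one_zpow, one_mul] at hx
      have h : q v * q u * (q v)⁻¹ ∈ S := hx (q v)
      obtain ⟨i, hi⟩ := Subgroup.mem_zpowers_iff.1 h
      refine hncomm ?_
      have e : Commute (q u) (q v * q u * (q v)⁻¹) := hi ▸ (Commute.refl (q u)).zpow_right i
      rw [inv_eq_of_mul_eq_one_right hvb, ← hub] at e
      have e' := e.eq
      rw [← mul_assoc, ← mul_assoc, huq, one_mul, mul_assoc (q u * q v), huq, mul_one] at e'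
      exact e'
  have eQ : X ⧸ K ≃* Equiv.Perm (Fin 3) := MulEquiv.ofBijective φ
    ((Nat.bijective_iff_injective_and_card φ).2 ⟨hφ, by
      rw [hcQ, hQ6, Nat.card_perm, Nat.card_fin]; rfl⟩)
  -- the centre is trivial
  have hZ : Subgroup.center X = ⊥ := by
    rw [Subgroup.eq_bot_iff_forall]
    intro z hz
    have hzK : z ∈ K := by
      have h3 : ∀ σ : Equiv.Perm (Fin 3), (∀ τ, τ * σ = σ * τ) → σ = 1 := by decide
      refine (QuotientGroup.eq_one_iff z).1 (eQ.injective ((h3 _ fun τ => ?_).trans (map_one eQ).symm))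
      obtain ⟨y, rfl⟩ := eQ.surjective τ
      obtain ⟨y, rfl⟩ := QuotientGroup.mk'_surjective K y
      rw [← map_mul, ← map_mul]
      exact congrArg (fun w : X => eQ (q w)) (Subgroup.mem_center_iff.1 hz y)
    have hzc : eK ⟨z, hzK⟩ ∈ Subgroup.center P := Subgroup.mem_center_iff.2 fun w => by
      obtain ⟨y, rfl⟩ := eK.surjective w
      rw [← map_mul, ← map_mul]
      exact congrArg eK (Subtype.ext (Subgroup.mem_center_iff.1 hz y))
    rcases (inferInstance : (Subgroup.center P).Normal).eq_bot_or_eq_top with h | h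
    · rw [h, Subgroup.mem_bot, MulEquiv.map_eq_one_iff] at hzc
      exact congrArg Subtype.val hzc
    · exfalso
      letI : CommGroup P :=
        { (inferInstance : Group P) with mul_comm := fun a c => Subgroup.mem_center_iff.1 (h ▸ Subgroup.mem_top c) a }
      have hprime := IsSimpleGroup.prime_card (α := P)
      have : Nat.card P = 4952179814400 := by rw [hQ6] at hKX; omega
      rw [this] at hprime
      exact absurd hprime (Nat.not_prime_mul (a := 2476089907200) (b := 2) (by norm_num) (by norm_num))
  refine ⟨by rw [hQ6] at hKX; omega, ?_⟩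
  let eX : X ≃* X ⧸ Subgroup.center X :=
    QuotientGroup.quotientBot.symm.trans (QuotientGroup.quotientMulEquivOfEq hZ.symm)
  haveI : (K.map (eX : X →* X ⧸ Subgroup.center X)).Normal :=
    Subgroup.Normal.map (inferInstance : K.Normal) _ eX.surjective
  exact ⟨K.map (eX : X →* X ⧸ Subgroup.center X), inferInstance, ⟨(eX.subgroupMap K).symm.trans eK⟩,
    ⟨(QuotientGroup.congr K _ eX rfl).symm.trans eQ⟩⟩

section Bits

variable (D : TrioData)

theorem testBit_slab (hmono : ∀ j k, j < k → k < D.m → D.place j < D.place k) (sel : ℕ → Bool) :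
    ∀ d lo x, lo < D.m → ((D.slab sel d lo).testBit x = true ↔
      ∃ k, lo ≤ k ∧ k < D.m ∧ k < lo + 2 ^ d ∧ D.place k - D.place lo = x ∧ sel (D.sorted.half k) = true) := by
  intro d
  induction d with
  | zero =>
    intro lo x hlo
    show (bif Nat.blt lo D.m && sel (D.sorted.half lo) then 1 else 0).testBit x = true ↔ _
    have hb : Nat.blt lo D.m = true := by rwa [Nat.blt_eq]
    constructor
    · intro h
      rw [hb, Bool.true_and] at h
      cases hs : sel (D.sorted.half lo) with
      | false => simp [hs] at h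
      | true =>
        rw [hs, cond_true] at h
        obtain rfl : x = 0 := by
          by_contra hx
          rw [Nat.testBit_lt_two_pow (Nat.one_lt_two_pow hx)] at h
          exact Bool.noConfusion h
        exact ⟨lo, le_rfl, hlo, by omega, Nat.sub_self _, hs⟩
    · rintro ⟨k, h1, -, h2, rfl, hs⟩
      obtain rfl : k = lo := by omega
      rw [hb, hs, Nat.sub_self]
      rfl
  | succ d ih =>
    intro lo x hlo
    set mid := lo + 2 ^ d with hmid
    have e : Nat.add lo (Nat.shiftLeft 1 d) = mid := by
      show lo + Nat.shiftLeft 1 d = _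
      rw [hmid, ← Nat.one_shiftLeft]
      rfl
    show (bif Nat.blt (Nat.add lo (Nat.shiftLeft 1 d)) D.m then
      Nat.lor (D.slab sel d lo) (Nat.shiftLeft (D.slab sel d (Nat.add lo (Nat.shiftLeft 1 d)))
        (Nat.sub (D.place (Nat.add lo (Nat.shiftLeft 1 d))) (D.place lo)))
      else D.slab sel d lo).testBit x = true ↔ _
    rw [e]
    have hp : 2 ^ (d + 1) = 2 ^ d + 2 ^ d := by rw [pow_succ]; omega
    by_cases hm : mid < D.m
    · rw [show Nat.blt mid D.m = true by rwa [Nat.blt_eq], cond_true]
      change (D.slab sel d lo ||| D.slab sel d mid <<< (D.place mid - D.place lo)).testBit x = true ↔ _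
      rw [Nat.testBit_or, Nat.testBit_shiftLeft, Bool.or_eq_true, Bool.and_eq_true, decide_eq_true_eq,
        ih lo x hlo, ih mid _ hm]
      have hlm : D.place lo < D.place mid := hmono _ _ (by have := Nat.one_le_two_pow (n := d); omega) hm
      constructor
      · rintro (⟨k, h1, h2, h3, h4, h5⟩ | ⟨hx, k, h1, h2, h3, h4, h5⟩)
        · exact ⟨k, h1, h2, by omega, h4, h5⟩
        · refine ⟨k, by omega, h2, by omega, ?_, h5⟩
          rcases Nat.lt_or_eq_of_le h1 with h | h
          · have := hmono _ _ h h2; omega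
          · subst h; omega
      · rintro ⟨k, h1, h2, h3, h4, h5⟩
        by_cases hk : k < mid
        · exact Or.inl ⟨k, h1, h2, hk, h4, h5⟩
        · refine Or.inr ⟨?_, k, by omega, h2, by omega, ?_, h5⟩ <;>
          · rcases Nat.lt_or_eq_of_le (not_lt.1 hk) with h | h
            · have := hmono _ _ h h2; omega
            · subst h; omega
    · rw [show Nat.blt mid D.m = false by rw [← Bool.not_eq_true, Nat.blt_eq]; exact hm, cond_false, ih lo x hlo]
      constructor
      · rintro ⟨k, h1, h2, h3, h4, h5⟩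
        exact ⟨k, h1, h2, by omega, h4, h5⟩
      · rintro ⟨k, h1, h2, h3, h4, h5⟩
        exact ⟨k, h1, h2, by omega, h4, h5⟩

theorem testBit_setOf (hm : D.m ≤ 2048) (h0 : 0 < D.m) (hmono : ∀ j k, j < k → k < D.m → D.place j < D.place k)
    (sel : ℕ → Bool) (x : ℕ) :
    (D.setOf sel).testBit x = true ↔ ∃ k < D.m, D.place k = x ∧ sel (D.sorted.half k) = true := by
  show (D.slab sel 11 0 <<< D.place 0).testBit x = true ↔ _
  rw [Nat.testBit_shiftLeft, Bool.and_eq_true, decide_eq_true_eq, testBit_slab D hmono sel 11 0 _ h0]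
  have hle : ∀ k < D.m, D.place 0 ≤ D.place k := fun k hk => by
    rcases Nat.eq_zero_or_pos k with rfl | h
    · exact le_rfl
    · exact (hmono 0 k h hk).le
  constructor
  · rintro ⟨hx, k, -, h2, -, h4, h5⟩
    exact ⟨k, h2, by have := hle k h2; omega, h5⟩
  · rintro ⟨k, hk, rfl, h5⟩
    exact ⟨hle k hk, k, Nat.zero_le k, hk, by omega, rfl, h5⟩

end Bits

section Sound

variable {G : Type*} [Group G] [Finite G] {n g : ℕ} (P : PointClass G n) (D : TrioData)

/-- a class and one further transposition -/
theorem trio_sound (hg : 0 < g) (hgm : g ≤ D.m) (s : ℕ → G) (gact : ℕ → ℕ → ℕ)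
    (hs : ∀ a < g, ∀ (B : ℕ) (i : Fin n), (gact a B).testBit (i : ℕ) = B.testBit ((P.π (s a) i : Fin n) : ℕ))
    (hsp : ∀ a < g, ∀ h : D.pt a < n, P.tp ⟨D.pt a, h⟩ = s a)
    (h1 : allBelow D.m (D.okIndex n g) = true) (h2 : allBelow D.m (D.okMove g) = true)
    (hgen : ∀ a < g, D.okGen gact a = true)
    (h3 : allBelow 6561 D.okCode = true)
    (t : G) (htt : t * t = 1) (hss : s 0 * s 0 = 1) (hbr : s 0 * t * s 0 = t * s 0 * t)
    (htmove : ∀ h : D.pt 0 < n, ∀ i < D.m, ((P.π t ⟨D.pt 0, h⟩ : Fin n) : ℕ) ≠ D.pt i)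
    (C : Subgroup G) (hC : ∀ a < g, s a ∈ C) (htC : t ∈ C) (hcard : Nat.card C ≤ 29713078886400) :
    Subgroup.closure (insert t (s '' Set.Iio g)) = C ∧
    ∃ (N : Subgroup (↥C ⧸ Subgroup.center ↥C)) (_ : N.Normal),
      Nonempty (↥N ≃* Cfsg.POmega (ZMod 3) (Cfsg.quadFormPlus 4 (ZMod 3))) ∧
      Nonempty ((↥C ⧸ Subgroup.center ↥C) ⧸ N ≃* Equiv.Perm (Fin 3)) := by
  haveI : Fact (Nat.Prime 3) := ⟨Nat.prime_three⟩
  classical
  set m := D.m with hm
  have hi1 := fun i (h : i < m) => by
    have := allBelow_spec h1 i h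
    simpa only [TrioData.okIndex, Bool.and_eq_true, Bool.or_eq_true, beq_iff, Nat.blt_eq, Nat.ble_eq] using this
  have hi2 := fun i (h : i < m) => by
    have := allBelow_spec h2 i h
    simpa only [TrioData.okMove, Bool.and_eq_true, Bool.or_eq_true, beq_iff, Nat.blt_eq, List.all_eq_true,
      List.mem_range] using this
  let pF : Fin m → Fin n := fun i => ⟨D.pt i, (hi1 i i.2).1.1.1.1.1.1.1.1⟩
  have hmono : ∀ j k, j < k → k < m → D.place j < D.place k := by
    intro j k hjk
    induction k with
    | zero => omega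
    | succ k ih =>
      intro hk
      have hstep : D.place k < D.place (k + 1) := by
        rcases (hi1 k (by omega)).1.2 with h | h
        · exact absurd h (by show ¬ m ≤ k + 1; omega)
        · exact h
      rcases Nat.lt_or_eq_of_le (Nat.lt_succ_iff.1 hjk) with h | h
      · exact (ih h (by omega)).trans hstep
      · exact h ▸ hstep
  have hplace : ∀ i < m, D.rank.half i < m ∧ D.place (D.rank.half i) = D.pt i ∧
      D.sorted.half (D.rank.half i) = i := fun i hi =>
    ⟨(hi1 i hi).1.1.1.2, congrArg D.pt (hi1 i hi).1.1.2, (hi1 i hi).1.1.2⟩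
  have hpinj' : ∀ i j, i < m → j < m → D.pt i = D.pt j → i = j := by
    intro i j hi hj e
    obtain ⟨ri, pi, ei⟩ := hplace i hi
    obtain ⟨rj, pj, ej⟩ := hplace j hj
    rcases lt_trichotomy (D.rank.half i) (D.rank.half j) with h | h | h
    · have := hmono _ _ h rj; omega
    · rw [← ei, ← ej, h]
    · have := hmono _ _ h ri; omega
  have hm0 : 0 < m := lt_of_lt_of_le hg hgm
  have hm2 : m ≤ 2048 := by
    have := hgen 0 hg
    simp only [TrioData.okGen, Bool.and_eq_true, Nat.ble_eq] at this
    exact this.1.1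
  have hset : ∀ sel : ℕ → Bool, ∀ i < m, ((D.setOf sel).testBit (D.pt i) = true ↔ sel i = true) := by
    intro sel i hi
    obtain ⟨ri, pi, ei⟩ := hplace i hi
    rw [testBit_setOf D hm2 hm0 hmono]
    constructor
    · rintro ⟨k, hk, e, hsel⟩
      rcases lt_trichotomy k (D.rank.half i) with h | h | h
      · have := hmono _ _ h ri; omega
      · rwa [h, ei] at hsel
      · have := hmono _ _ h hk; omega
    · intro h
      exact ⟨_, ri, pi, by rwa [ei]⟩
  have hsorted : ∀ k < m, D.sorted.half k < m := by
    by_contra hne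
    push Not at hne
    obtain ⟨k, hk, hk'⟩ := hne
    have hsurj : Function.Surjective fun i : Fin m => (⟨D.rank.half i, (hplace i i.2).1⟩ : Fin m) :=
      Finite.injective_iff_surjective.1 fun i j e => Fin.ext (by
        rw [← (hplace i i.2).2.2, ← (hplace j j.2).2.2, show D.rank.half i = D.rank.half j from congrArg Fin.val e])
    obtain ⟨i, hi⟩ := hsurj ⟨k, hk⟩
    have := congrArg Fin.val hi
    simp only at this
    rw [← this, (hplace i i.2).2.2] at hk'
    omega
  let f : Fin m → G := fun i => P.tp (pF i)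
  have hfinj : Function.Injective f := P.tp_injective.comp fun i j e =>
    Fin.ext (hpinj' _ _ i.2 j.2 (congrArg Fin.val e))
  let T : Set (Fin m) := {a | (a : ℕ) < g}
  let op : Fin m → Fin m → Fin m := fun a i => if h : (a : ℕ) < g ∧ D.op a i < m then ⟨D.op a i, h.2⟩ else i
  have hopv : ∀ a ∈ T, ∀ i : Fin m, ((op a i : Fin m) : ℕ) = D.op a i := fun a ha i => by
    simp only [op]
    rw [dif_pos ⟨ha, (hi2 i i.2 a ha).1⟩]
  have hfs : ∀ a ∈ T, f a = s a := fun a ha => hsp a ha _
  have hmove : ∀ a ∈ T, ∀ i, P.π (s a) (pF i) = pF (op a i) := by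
    intro a ha i
    have hchk := hgen a ha
    simp only [TrioData.okGen, Bool.and_eq_true, List.all_eq_true, List.mem_range, beq_iff] at hchk
    obtain ⟨⟨-, hall⟩, hdig⟩ := hchk
    have e0 := hs a ha (D.setOf fun _ => true) (pF i)
    rw [hall, show ((pF i : Fin n) : ℕ) = D.pt i from rfl, (hset _ i i.2).2 rfl] at e0
    obtain ⟨k, hk, ek, -⟩ := (testBit_setOf D hm2 hm0 hmono _ _).1 e0.symm
    set j := D.sorted.half k with hj
    have hjm : j < m := hsorted k hk
    refine Fin.ext ?_
    rw [← ek]
    show D.pt j = D.pt _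
    rw [hopv a ha]
    refine congrArg D.pt (Nat.eq_of_testBit_eq fun b => ?_)
    have hdec : ∀ x, TrioData.digit b x = Nat.testBit x b := fun x => by
      rw [Bool.eq_iff_iff, TrioData.digit, beq_iff, Nat.testBit_eq_decide_div_mod_eq, decide_eq_true_iff]
      show (x >>> b) &&& 1 = 1 ↔ _
      rw [Nat.and_one_is_mod, Nat.shiftRight_eq_div_pow]
    by_cases hb : b < 11
    · have e1 := hs a ha (D.setOf (TrioData.digit b)) (pF i)
      rw [hdig b hb, show ((pF i : Fin n) : ℕ) = D.pt i from rfl, ← ek,
        show D.place k = D.pt j from rfl, Bool.eq_iff_iff, hset _ i i.2, hset _ j hjm, hdec, hdec] at e1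
      exact Bool.eq_iff_iff.2 e1.symm
    · have hop2 : D.op a i < 2 ^ b := lt_of_lt_of_le ((hi2 i i.2 a ha).1.trans_le hm2)
        (Nat.pow_le_pow_right (n := 2) (by norm_num) (show 11 ≤ b by omega))
      have hj2 : j < 2 ^ b := lt_of_lt_of_le (hjm.trans_le hm2)
        (Nat.pow_le_pow_right (n := 2) (by norm_num) (show 11 ≤ b by omega))
      rw [Nat.testBit_lt_two_pow hj2, Nat.testBit_lt_two_pow hop2]
  have hop : ∀ a ∈ T, ∀ i, f a * f i * (f a)⁻¹ = f (op a i) := fun a ha i => by
    rw [hfs a ha]
    show s a * P.tp (pF i) * (s a)⁻¹ = P.tp _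
    rw [P.conj_tp, hmove a ha]
  have hreach : Reaches T op := by
    intro Pr hT hstep i
    obtain ⟨i, hi⟩ := i
    induction i using Nat.strong_induction_on with
    | _ i ih =>
      rcases (hi1 i hi).2 with h | ⟨⟨hp, hpg⟩, he⟩
      · exact hT _ h
      · have e : (⟨i, hi⟩ : Fin m) = op ⟨D.parentGen.half i, by omega⟩ ⟨D.parent.half i, by omega⟩ :=
          Fin.ext (by rw [hopv _ hpg]; exact he.symm)
        rw [e]
        exact hstep _ hpg _ (ih _ hp _)
  -- the vectors
  let v : Fin m → Fin 8 → ZMod 3 := fun i => vecC 8 (D.codes.half i)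
  have hv : ∀ i : Fin m, formC 8 eightData (v i) = ((1 : ℕ) : ZMod 3) := fun i => by
    rw [← qN_cast 8 eightData rfl, (hi1 i i.2).1.1.1.1.1.1.2]
  have hcd : ∀ i : Fin m, D.codes.half i < 3 ^ 8 := fun i => (hi1 i i.2).1.1.1.1.1.1.1.2
  obtain ⟨f', hf'inj, hrange, hf'op⟩ := refl_table (formC 8 eightData)
    (show ((1 : ℕ) : ZMod 3) ≠ 0 by simp) v hv
    (fun i j hij => by
      have ei := (hi1 i i.2).1.1.1.1.1.2
      have ei' := (hi1 i i.2).1.1.1.1.2
      have ej := (hi1 j j.2).1.1.1.1.1.2
      refine Fin.ext ?_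
      rcases hij with h | h
      · rw [← ei, ← ej, vecC_inj 8 _ _ (hcd j) (hcd i) h]
      · rw [← ei', ← ej, vecC_inj 8 _ _ (hcd j)
          (exists_code 8 _ fun _ => Nat.mod_lt _ (by norm_num)) (h.trans (vecC_negC 8 eightData rfl _).symm)]
        rfl)
    (fun u hu => by
      let uk : ℕ → ℕ := fun k => if h : k < 8 then (u ⟨k, h⟩).val else 0
      have huk : ∀ k, uk k < 3 := fun k => by
        simp only [uk]
        split_ifs
        · exact (u _).isLt
        · omega
      set x := TableData.encode 8 uk with hx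
      have hux : vecC 8 x = u := by
        funext k
        show (TableData.dig x k : ZMod 3) = u k
        rw [hx, dig_encode 8 uk huk k k.2]
        simp only [uk, dif_pos k.2, Fin.eta]
        exact ZMod.natCast_zmod_val (u k)
      have h := allBelow_spec h3 x (exists_code 8 uk huk)
      have hq : Nat.beq (eightData.qN x) 1 = true := by
        have e : (eightData.qN x : ZMod 3) = ((1 : ℕ) : ZMod 3) := by rw [qN_cast 8 eightData rfl, hux, hu]
        rw [ZMod.natCast_eq_natCast_iff'] at e
        have hlt3 : eightData.qN x < 3 := Nat.mod_lt _ (by norm_num)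
        rw [beq_iff]
        omega
      simp only [TrioData.okCode, hq, cond_true, Bool.and_eq_true, Bool.or_eq_true, beq_iff, Nat.blt_eq] at h
      refine ⟨⟨D.codeInv.half x, h.1⟩, ?_⟩
      rw [← hux]
      rcases h.2 with h' | h'
      · exact Or.inl (by simp only [v, h'])
      · refine Or.inr ?_
        simp only [v]
        rw [← vecC_negC 8 eightData rfl, h'])
    T op (fun a ha i => by
      rw [hv a]
      simp only [v, hopv a ha]
      rw [show ((1 : ℕ) : ZMod 3) = (eightData.norm : ZMod 3) from rfl, ← vecC_reflC 8 eightData rfl (Or.inl rfl)]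
      rcases (hi2 i i.2 a ha).2 with h | h
      · exact Or.inl (by rw [h])
      · exact Or.inr (by rw [h, vecC_negC 8 eightData rfl]))
  obtain ⟨eM⟩ := quot_center_equiv f f' hfinj hf'inj T op hop hf'op hreach
  set M := Subgroup.closure (Set.range f) with hMdef
  obtain ⟨eR⟩ := derived_proj_refl eight_nondeg (by norm_num) (show ((1 : ℕ) : ZMod 3) ≠ 0 by simp)
  obtain ⟨e8⟩ := pOmega_eight (formC 8 eightData) formC_eightData
  let eq' : ↥M ⧸ Subgroup.center ↥M ≃*
      ↥(Cfsg.reflectionSubgroup (⇑(formC 8 eightData)) ((1 : ℕ) : ZMod 3)) ⧸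
        Subgroup.center ↥(Cfsg.reflectionSubgroup (⇑(formC 8 eightData)) ((1 : ℕ) : ZMod 3)) :=
    eM.trans (centerQuotCongr (MulEquiv.subgroupCongr (congrArg Subgroup.closure hrange.symm)))
  have hcm : (commutator (↥M ⧸ Subgroup.center ↥M)).map eq'.toMonoidHom = commutator _ := by
    rw [commutator_def, commutator_def, Subgroup.map_commutator,
      Subgroup.map_top_of_surjective _ eq'.surjective]
  let eP : ↥(commutator (↥M ⧸ Subgroup.center ↥M)) ≃* Cfsg.POmega (ZMod 3) (Cfsg.quadFormPlus 4 (ZMod 3)) :=
    (((eq'.subgroupMap _).trans (MulEquiv.subgroupCongr hcm)).trans eR).trans e8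
  -- the derived group and the quotient
  have hMT : M = Subgroup.closure (f '' T) := closure_range_eq f T op hop hreach
  have hMC : M ≤ C := by
    rw [hMT, Subgroup.closure_le]
    rintro _ ⟨a, ha, rfl⟩
    rw [hfs a ha]
    exact hC a ha
  have hstab : ∀ x ∈ M, ∀ i, P.π x (pF i) ∈ Set.range pF := by
    intro x hx
    rw [hMT] at hx
    induction hx using Subgroup.closure_induction with
    | mem y hy =>
      obtain ⟨a, ha, rfl⟩ := hy
      intro i
      exact ⟨_, by rw [hfs a ha, hmove a ha]⟩
    | one => intro i; exact ⟨i, by simp⟩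
    | mul a b _ _ ha hb =>
      intro i
      obtain ⟨j, hj⟩ := hb i
      rw [map_mul, Equiv.Perm.mul_apply, ← hj]
      exact ha j
    | inv a _ ha =>
      intro i
      choose φ hφ using ha
      have hφinj : Function.Injective φ := fun u v e => by
        have := (hφ u).symm.trans ((congrArg pF e).trans (hφ v))
        exact Fin.ext (hpinj' _ _ u.2 v.2 (congrArg Fin.val ((P.π a).injective this)))
      obtain ⟨j, rfl⟩ := (Finite.injective_iff_surjective.1 hφinj) i
      refine ⟨j, ?_⟩
      rw [map_inv, eq_comm, Equiv.Perm.inv_eq_iff_eq, hφ j]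
  have htM : t ∉ M := fun h => by
    obtain ⟨j, hj⟩ := hstab t h ⟨0, hm0⟩
    exact htmove _ j j.2 (congrArg Fin.val hj.symm)
  have hcmap : (commutator ↥M).map (QuotientGroup.mk' (Subgroup.center ↥M)) =
      commutator (↥M ⧸ Subgroup.center ↥M) := by
    rw [commutator_def, commutator_def, Subgroup.map_commutator,
      Subgroup.map_top_of_surjective _ (QuotientGroup.mk'_surjective _)]
  let bK : ↥(commutator ↥M) →* Cfsg.POmega (ZMod 3) (Cfsg.quadFormPlus 4 (ZMod 3)) :=
    eP.toMonoidHom.comp ((MulEquiv.subgroupCongr hcmap).toMonoidHom.comp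
      ((QuotientGroup.mk' (Subgroup.center ↥M)).subgroupMap (commutator ↥M)))
  have hbK : Function.Surjective bK := eP.surjective.comp
    ((MulEquiv.subgroupCongr hcmap).surjective.comp (MonoidHom.subgroupMap_surjective _ _))
  haveI : IsSimpleGroup (Cfsg.POmega (ZMod 3) (Cfsg.quadFormPlus 4 (ZMod 3))) := by
    rw [← OmegaEightThree.qf_eq]
    exact CfsgLib.Geometry.isSimpleGroup_pOmega _ (CfsgLib.Geometry.Oct.evenHyp8 (F := ZMod 3)).nondeg (by simp)
  set L₀ := Subgroup.closure (insert t (s '' Set.Iio g)) with hL₀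
  have hL₀C : L₀ ≤ C := by
    rw [hL₀, Subgroup.closure_le]
    rintro _ (rfl | ⟨a, ha, rfl⟩)
    · exact htC
    · exact hC a ha
  have hML : M ≤ L₀ := by
    rw [hMT, Subgroup.closure_le]
    rintro _ ⟨a, ha, rfl⟩
    rw [hfs a ha]
    exact Subgroup.subset_closure (Set.mem_insert_of_mem _ ⟨a, ha, rfl⟩)
  have hs0M : s 0 ∈ M := hfs ⟨0, hm0⟩ hg ▸ Subgroup.subset_closure ⟨_, rfl⟩
  -- the same for the group generated and for the whole one
  have key : ∀ D' : Subgroup G, M ≤ D' → D' ≤ C → s 0 ∈ D' → t ∈ D' → 29713078886400 ≤ Nat.card D' ∧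
      ∃ (N : Subgroup (↥D' ⧸ Subgroup.center ↥D')) (_ : N.Normal),
        Nonempty (↥N ≃* Cfsg.POmega (ZMod 3) (Cfsg.quadFormPlus 4 (ZMod 3))) ∧
        Nonempty ((↥D' ⧸ Subgroup.center ↥D') ⧸ N ≃* Equiv.Perm (Fin 3)) := by
    intro D' hMD hDC hsD htD
    have := Subgroup.card_le_of_le hDC
    refine small_extension (X := ↥D') (M.subgroupOf D') ?_ ?_ card_pOmega_plus (by omega)
      ⟨s 0, hsD⟩ ⟨t, htD⟩ hs0M htM (Subtype.ext hss) (Subtype.ext htt) (Subtype.ext hbr)
    · exact bK.comp (commutatorCongr (Subgroup.subgroupOfEquivOfLe hMD)).toMonoidHom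
    · exact hbK.comp (commutatorCongr (Subgroup.subgroupOfEquivOfLe hMD)).surjective
  have e : L₀ = C := Subgroup.eq_of_le_of_card_ge hL₀C (hcard.trans (key L₀ hML hL₀C (hML hs0M)
    (Subgroup.subset_closure (Set.mem_insert _ _))).1)
  exact ⟨e, (key C hMC le_rfl (hMC hs0M) htC).2⟩

end Sound

end CfsgLib.Spor.FischerTypes
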