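import Cfsg.Agent.Lib.Spor.FischerTypes.Stab24
import Cfsg.Agent.Lib.Spor.FischerTypes.Trio
import Cfsg.Agent.Lib.Spor.FischerTypes.Tab24
import Cfsg.Agent.Lib.Spor.FischerTypes.Gen24A
import Cfsg.Agent.Lib.Spor.FischerTypes.Gen24B
import Cfsg.Agent.Lib.Spor.FischerTypes.Gen24C
import Cfsg.Agent.Lib.Spor.FischerTypes.M23
import Cfsg.Agent.Lib.Spor.FischerTypes.Transport

/-!
The presented group `Fi24` is of type M(24), given the facts from the enumeration of the cosets.
-/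

set_option autoImplicit false
set_option Elab.async false
set_option maxRecDepth 100000

namespace CfsgLib.Spor.FischerTypes

open CfsgLib.BitPerm CfsgLib.PresCert Cfsg.Spor
open CfsgLib.Spor.Fi24 (π π_gen π_word idx gen gen_sq H hGens sys i₀ okNets)

attribute [local irreducible] sys outerWord outerPoint outerImage tableTwentyFour

theorem transfer_ext {A B : Subgroup Cfsg.Spor.Fi24} (e : A = B)
    (h : ∃ (N : Subgroup (↥B ⧸ Subgroup.center ↥B)) (_ : N.Normal),
      Nonempty (↥N ≃* Cfsg.POmega (ZMod 3) (Cfsg.quadFormPlus 4 (ZMod 3))) ∧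
      Nonempty ((↥B ⧸ Subgroup.center ↥B) ⧸ N ≃* Equiv.Perm (Fin 3))) :
    ∃ (N : Subgroup (↥A ⧸ Subgroup.center ↥A)) (_ : N.Normal),
      Nonempty (↥N ≃* Cfsg.POmega (ZMod 3) (Cfsg.quadFormPlus 4 (ZMod 3))) ∧
      Nonempty ((↥A ⧸ Subgroup.center ↥A) ⧸ N ≃* Equiv.Perm (Fin 3)) := by
  subst e
  exact h

variable (F : CosetFacts)

theorem tp_l : (cls24 F).tp i₀ = gen .l := (cls24 F).tp_base

theorem edge_pt {x y : Fi24.Gen} (h : coxLabel Fi24.edges x y = 3) {p q : Fin 306936}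
    (hp : (cls24 F).tp p = gen x) (hpq : sys.pt (idx x) (sys.pt (idx y) p) = (q : ℕ)) :
    (cls24 F).tp q = gen y := by
  have e : π (gen x * gen y) p = q := Fin.ext (by rw [map_mul, Equiv.Perm.mul_apply, π_gen, π_gen, hpq])
  rw [← e]
  refine ((cls24 F).conj_tp (gen x * gen y) p).symm.trans ?_
  rw [hp]
  exact braid24 h

theorem gen_tp : ∀ x : Fi24.Gen, (cls24 F).tp
    ⟨[0, 31673, 1, 3, 5, 142, 266, 268, 367, 435, 157, 799].getD (idx x) 0, by cases x <;> decide⟩ = gen x := by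
  have hl : (cls24 F).tp ⟨0, by norm_num⟩ = gen .l := tp_l F
  have hk := edge_pt F (x := .l) (y := .k) (q := ⟨31673, by norm_num⟩) (by decide) hl (by decide +kernel)
  have ha := edge_pt F (x := .k) (y := .a) (q := ⟨1, by norm_num⟩) (by decide) hk (by decide +kernel)
  have hb := edge_pt F (x := .a) (y := .b) (q := ⟨3, by norm_num⟩) (by decide) ha (by decide +kernel)
  have hc := edge_pt F (x := .b) (y := .c) (q := ⟨5, by norm_num⟩) (by decide) hb (by decide +kernel)
  have hd := edge_pt F (x := .c) (y := .d) (q := ⟨142, by norm_num⟩) (by decide) hc (by decide +kernel)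
  have he := edge_pt F (x := .d) (y := .e) (q := ⟨266, by norm_num⟩) (by decide) hd (by decide +kernel)
  have hf := edge_pt F (x := .e) (y := .f) (q := ⟨268, by norm_num⟩) (by decide) he (by decide +kernel)
  have hg := edge_pt F (x := .f) (y := .g) (q := ⟨367, by norm_num⟩) (by decide) hf (by decide +kernel)
  have hj := edge_pt F (x := .g) (y := .j) (q := ⟨435, by norm_num⟩) (by decide) hg (by decide +kernel)
  have hh := edge_pt F (x := .d) (y := .h) (q := ⟨157, by norm_num⟩) (by decide) hd (by decide +kernel)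
  have hi := edge_pt F (x := .h) (y := .i) (q := ⟨799, by norm_num⟩) (by decide) hh (by decide +kernel)
  intro x
  cases x
  exacts [hl, hk, ha, hb, hc, hd, he, hf, hg, hj, hh, hi]

include F in
theorem gen_mem (x : Fi24.Gen) : gen x ∈ conjugatesOf (gen .l) :=
  gen_tp F x ▸ ((cls24 F).range_tp.le ⟨_, rfl⟩)

theorem braid_of_pt {p q : Fin 306936} (h : π ((cls24 F).tp p) q = π ((cls24 F).tp q) p) :
    (cls24 F).tp p * (cls24 F).tp q * ((cls24 F).tp p)⁻¹ =
      (cls24 F).tp q * (cls24 F).tp p * ((cls24 F).tp q)⁻¹ :=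
  ((cls24 F).conj_tp _ _).trans ((congrArg _ h).trans ((cls24 F).conj_tp _ _).symm)

include F in
theorem three_transposition24 : Cfsg.IsThreeTranspositionClass (conjugatesOf (gen (.l : Fi24.Gen))) := by
  refine ⟨⟨?_, ?_⟩, ⟨_, mem_conjugatesOf_self, rfl⟩, ?_⟩
  · intro d hd
    obtain ⟨g, rfl⟩ := isConj_iff.1 hd
    show orderOf ((MulAut.conj g).toMonoidHom (gen .l)) = 2
    rw [orderOf_injective _ (MulAut.conj g).injective]
    exact orderOf_eq_prime (by rw [pow_two]; exact gen_sq _) l_ne_one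
  · intro d hd e he
    obtain ⟨u, rfl⟩ := isConj_iff.1 hd
    obtain ⟨v, rfl⟩ := isConj_iff.1 he
    suffices key : ∀ w, (gen .l * (w * gen .l * w⁻¹)) ^ 2 = 1 ∨ (gen .l * (w * gen .l * w⁻¹)) ^ 3 = 1 by
      have e1 : u * gen .l * u⁻¹ * (v * gen .l * v⁻¹) =
          MulAut.conj u (gen .l * (u⁻¹ * v * gen .l * (u⁻¹ * v)⁻¹)) := by simp [MulAut.conj_apply, mul_assoc]
      rcases key (u⁻¹ * v) with h | h
      · exact Or.inl (by rw [e1, ← map_pow, h, map_one])
      · exact Or.inr (by rw [e1, ← map_pow, h, map_one])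
    intro w
    rw [show w * gen .l * w⁻¹ = (cls24 F).tp (π w i₀) from ((cls24 F).tp_of_eq (g := w) rfl).symm]
    generalize π w i₀ = p
    have conjH : ∀ h ∈ H, ∀ y, ∀ m : ℕ, (gen .l * y) ^ m = 1 → (gen .l * (h * y * h⁻¹)) ^ m = 1 := by
      intro h hh y m hm
      have e : gen .l * (h * y * h⁻¹) = MulAut.conj h (gen .l * y) := by
        rw [MulAut.conj_apply, ← mul_assoc h, H_comm h hh]
        simp [mul_assoc]
      rw [e, ← map_pow, hm, map_one]
    by_cases h0 : (p : ℕ) = 0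
    · left
      rw [show p = i₀ from Fin.ext h0, tp_l, gen_sq, one_pow]
    by_cases h1 : (p : ℕ) < 31672
    · left
      obtain ⟨h, hh, e⟩ := orbA (i := ⟨1, by norm_num⟩) (j := p) ⟨le_rfl, by norm_num⟩ ⟨by omega, h1⟩
      rw [← e]
      show (gen .l * (cls24 F).tp ((cls24 F).π h _)) ^ 2 = 1
      rw [← (cls24 F).conj_tp]
      refine conjH h hh _ 2 ?_
      rw [show (cls24 F).tp ⟨1, _⟩ = gen .a from gen_tp F .a]
      exact (cox24 .l .a)
    · right
      obtain ⟨h, hh, e⟩ := orbB (i := ⟨31673, by norm_num⟩) (j := p) (by norm_num) (not_lt.1 h1)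
      rw [← e]
      show (gen .l * (cls24 F).tp ((cls24 F).π h _)) ^ 3 = 1
      rw [← (cls24 F).conj_tp]
      refine conjH h hh _ 3 ?_
      rw [show (cls24 F).tp ⟨31673, _⟩ = gen .k from gen_tp F .k]
      exact (cox24 .l .k)
  · rw [eq_top_iff, ← top_eq_lettersGroup (edges := Fi24.edges) (extra := Fi24.extra) Fi24.allGens Fi24.mem_allGens,
      lettersGroup, Subgroup.closure_le]
    rintro _ ⟨x, -, rfl⟩
    exact Subgroup.subset_closure (gen_mem F x)

include F in
theorem center24 : Subgroup.center Cfsg.Spor.Fi24 = ⊥ := by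
  obtain ⟨e, -, -, hZ⟩ := exists_quot24 F
  rw [Subgroup.eq_bot_iff_forall]
  intro z hz
  have hzH : z ∈ H := mem_H_of_fix F (fix_of_comm F (Subgroup.mem_center_iff.1 hz _).symm)
  have hc : (⟨z, hzH⟩ : H) ∈ Subgroup.center H :=
    Subgroup.mem_center_iff.2 fun y => Subtype.ext (Subgroup.mem_center_iff.1 hz y)
  -- an element fixing every point
  have hall : ∀ p, π z p = p := fun p => by
    obtain ⟨g, rfl⟩ := Fi24.transitive p
    rw [← Equiv.Perm.mul_apply, ← map_mul, ← Subgroup.mem_center_iff.1 hz g, map_mul, Equiv.Perm.mul_apply,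
      Fi24.H_fix z hzH]
  have hcH : Subgroup.center H ≤ Subgroup.zpowers lH := hZ.le
  obtain ⟨k, hk⟩ := Subgroup.mem_zpowers_iff.1 (hcH hc)
  have hzk : z = gen .l ^ k := ((congrArg Subtype.val hk).symm.trans (SubgroupClass.coe_zpow _ _))
  rcases Int.even_or_odd k with ⟨j, rfl⟩ | ⟨j, rfl⟩
  · rw [hzk, zpow_add, ← (Commute.refl (gen (.l : Fi24.Gen))).mul_zpow, gen_sq, one_zpow]
  · exfalso
    rw [zpow_add, zpow_one, zpow_mul, zpow_two, gen_sq, one_zpow, one_mul] at hzk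
    have := congrArg Fin.val (hall ⟨31673, by norm_num⟩)
    rw [hzk, π_gen] at this
    exact absurd this (by decide +kernel)

include F in
theorem primitive24 : Cfsg.IsPrimitiveUnderConj (conjugatesOf (gen (.l : Fi24.Gen))) := by
  set P := cls24 F
  refine ⟨fun a ha b hb => ?_, ⟨_, gen_mem F .l, _, gen_mem F .k, fun h => moves_k (congrArg π h).symm⟩, ?_⟩
  · obtain ⟨u, rfl⟩ := isConj_iff.1 ha
    obtain ⟨v, rfl⟩ := isConj_iff.1 hb
    exact ⟨v * u⁻¹, by group⟩
  intro B hB hblock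
  by_cases hs : B.Subsingleton
  · exact Or.inl hs
  refine Or.inr (Set.Subset.antisymm hB ?_)
  obtain ⟨x, hx, y, hy, hxy⟩ := Set.not_subsingleton_iff.1 hs
  obtain ⟨u, hu⟩ := isConj_iff.1 (hB hx)
  -- the block moved to the base point
  let B₀ : Set (Fin 306936) := {p | u * P.tp p * u⁻¹ ∈ B}
  have hb0 : i₀ ∈ B₀ := by show u * P.tp i₀ * u⁻¹ ∈ B; rw [tp_l, hu]; exact hx
  have hblk : ∀ g p, p ∈ B₀ → π g p ∈ B₀ → ∀ r ∈ B₀, π g r ∈ B₀ := by
    intro g p hp hgp r hr
    rcases hblock (u * g * u⁻¹) with h | h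
    · show u * P.tp (P.π g r) * u⁻¹ ∈ B
      rw [← h, ← P.conj_tp]
      exact ⟨_, hr, by group⟩
    · exfalso
      refine Set.disjoint_left.1 h (show u * P.tp (P.π g p) * u⁻¹ ∈ _ from ?_) hgp
      rw [← P.conj_tp]
      exact ⟨_, hp, by group⟩
  have hH : ∀ h ∈ H, ∀ r ∈ B₀, π h r ∈ B₀ := fun h hh => hblk h i₀ hb0 (by rwa [Fi24.H_fix h hh])
  have hA : ∀ r ∈ B₀, 1 ≤ (r : ℕ) → (r : ℕ) < 31672 → ∀ s : Fin 306936, 1 ≤ (s : ℕ) → (s : ℕ) < 31672 → s ∈ B₀ :=
    fun r hr r1 r2 s s1 s2 => by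
      obtain ⟨h, hh, e⟩ := orbA ⟨r1, r2⟩ ⟨s1, s2⟩
      exact e ▸ hH h hh r hr
  have hK : ∀ r ∈ B₀, 31672 ≤ (r : ℕ) → ∀ s : Fin 306936, 31672 ≤ (s : ℕ) → s ∈ B₀ :=
    fun r hr r1 s s1 => by
      obtain ⟨h, hh, e⟩ := orbB r1 s1
      exact e ▸ hH h hh r hr
  obtain ⟨r, hr, hr0⟩ : ∃ r ∈ B₀, (r : ℕ) ≠ 0 := by
    obtain ⟨v, hv⟩ := isConj_iff.1 (hB hy)
    refine ⟨π (u⁻¹ * v) i₀, ?_, fun h => hxy ?_⟩
    · show u * P.tp (P.π (u⁻¹ * v) i₀) * u⁻¹ ∈ B
      rw [← P.conj_tp, show P.tp i₀ = gen .l from tp_l F]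
      convert hy using 1
      rw [← hv]; group
    · have e : π (u⁻¹ * v) i₀ = i₀ := Fin.ext h
      have c := H_comm _ (mem_H_of_fix F e)
      rw [← hu, ← hv]
      calc u * gen .l * u⁻¹ = u * (gen .l * (u⁻¹ * v)) * v⁻¹ := by group
        _ = u * ((u⁻¹ * v) * gen .l) * v⁻¹ := by rw [c]
        _ = v * gen .l * v⁻¹ := by group
  -- both further orbits are inside
  have both : (⟨1, by norm_num⟩ : Fin 306936) ∈ B₀ ∧ (⟨31673, by norm_num⟩ : Fin 306936) ∈ B₀ := by
    by_cases h1 : (r : ℕ) < 31672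
    · have a1 : (⟨1, by norm_num⟩ : Fin 306936) ∈ B₀ := hA r hr (by omega) h1 _ le_rfl (by norm_num)
      have h2 := hblk toA i₀ hb0 (by rwa [show π toA i₀ = ⟨1, by norm_num⟩ from Fin.ext π_toA]) _
        (hA r hr (by omega) h1 ⟨2, by norm_num⟩ (by norm_num) (by norm_num))
      refine ⟨a1, hK _ h2 ?_ _ (by norm_num)⟩
      rw [toA, map_mul, map_mul, map_mul, Equiv.Perm.mul_apply, Equiv.Perm.mul_apply, Equiv.Perm.mul_apply,
        π_gen, π_gen, π_gen, π_gen]
      decide +kernel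
    · have k1 : (⟨31673, by norm_num⟩ : Fin 306936) ∈ B₀ := hK r hr (not_lt.1 h1) _ (by norm_num)
      have h2 := hblk toK i₀ hb0 (by rwa [show π toK i₀ = ⟨31673, by norm_num⟩ from Fin.ext π_toK]) _
        (hK r hr (not_lt.1 h1) ⟨31675, by norm_num⟩ (by norm_num))
      have e2 : ((π toK (⟨31675, by norm_num⟩ : Fin 306936) : Fin _) : ℕ) = 1 := by
        rw [toK, map_mul, Equiv.Perm.mul_apply, π_gen, π_gen]
        decide +kernel
      exact ⟨by rwa [show π toK ⟨31675, _⟩ = ⟨1, by norm_num⟩ from Fin.ext e2] at h2, k1⟩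
  intro d hd
  obtain ⟨v, hv⟩ := isConj_iff.1 hd
  have : π (u⁻¹ * v) i₀ ∈ B₀ := by
    by_cases c0 : ((π (u⁻¹ * v) i₀ : Fin _) : ℕ) = 0
    · rwa [show π (u⁻¹ * v) i₀ = i₀ from Fin.ext c0]
    by_cases c1 : ((π (u⁻¹ * v) i₀ : Fin _) : ℕ) < 31672
    · exact hA _ both.1 le_rfl (by norm_num) _ (by omega) c1
    · exact hK _ both.2 (by norm_num) _ (not_lt.1 c1)
  have h' : u * P.tp (P.π (u⁻¹ * v) i₀) * u⁻¹ ∈ B := this
  rw [← P.conj_tp, show P.tp i₀ = gen .l from tp_l F] at h'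
  convert h' using 1
  rw [← hv]; group

theorem comm_tp_l (p : Fin 306936) : Commute (gen .l) ((cls24 F).tp p) ↔ π (gen .l) p = p :=
  (cls24 F).commute_tp_iff _ _

/-- the transpositions commuting with `l` -/
def nbL : Set Cfsg.Spor.Fi24 :=
  {y | y ∈ conjugatesOf (gen .l) ∧ y ≠ gen .l ∧ Commute (gen .l) y}

include F in
theorem gen_nb24 {x : Fi24.Gen} (hx : x ∈ hGens) (hl : x ≠ .l) : gen x ∈ nbL := by
  refine ⟨gen_mem F x, fun e => hl ?_, (comm_l hx).symm⟩
  rw [← gen_tp F x, ← gen_tp F .l] at e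
  have e' := congrArg Fin.val ((cls24 F).tp_injective e)
  revert e'
  cases x <;> decide

include F in
theorem nb_closure24 : Subgroup.closure nbL = H := by
  refine le_antisymm ?_ ((Subgroup.closure_le _).2 ?_)
  · rw [← centralizer_l F, Subgroup.closure_le]
    exact fun y hy => Subgroup.mem_centralizer_singleton_iff.2 hy.2.2.eq.symm
  · rintro _ ⟨x, hx, rfl⟩
    by_cases hl : x = .l
    · subst hl
      show gen .l ∈ Subgroup.closure nbL
      rw [← seven_l]
      refine list_prod_mem fun q hq => ?_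
      obtain ⟨y, hy, rfl⟩ := List.mem_map.1 hq
      have hy' : y ∈ hGens ∧ y ≠ .l := by
        revert hy
        cases y <;> decide
      exact Subgroup.subset_closure (gen_nb24 F hy'.1 hy'.2)
    · exact Subgroup.subset_closure (gen_nb24 F hx hl)

include F in
theorem typeM23_nb :
    Cfsg.IsOfTypeM23 (↥(Subgroup.closure nbL) ⧸ Subgroup.center ↥(Subgroup.closure nbL))
      ((QuotientGroup.mk : ↥(Subgroup.closure nbL) → _) ''
        {x : ↥(Subgroup.closure nbL) | (x : Cfsg.Spor.Fi24) ∈ nbL}) := by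
  obtain ⟨e, he, -, -⟩ := exists_quot24 F
  set S := nbL
  let k : H ≃* ↥(Subgroup.closure S) := MulEquiv.subgroupCongr (nb_closure24 F).symm
  have hk : ∀ w : H, ((k w : ↥(Subgroup.closure S)) : Cfsg.Spor.Fi24) = w := fun _ => rfl
  let E := e.trans (centerQuotCongr k)
  have hE : ∀ (u : Cfsg.Spor.Fi23) (w : H), e u = QuotientGroup.mk w →
      E u = QuotientGroup.mk (k w) := fun u w h => by
    show centerQuotCongr k (e u) = _
    rw [h]
    rfl
  have hclass : conjugatesOf Fi23.z = conjugatesOf (Fi23.gen .a) :=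
    IsConj.conjugatesOf_eq (gen_nb (x := .a) (by decide)).1
  have himg : (QuotientGroup.mk : ↥(Subgroup.closure S) → _) '' {x | (x : Cfsg.Spor.Fi24) ∈ S} =
      E '' conjugatesOf Fi23.z := by
    rw [hclass]
    ext y
    constructor
    · rintro ⟨x, hx, rfl⟩
      obtain ⟨hxc, hxne, hxl⟩ : (x : Cfsg.Spor.Fi24) ∈ conjugatesOf (gen .l) ∧ (x : Cfsg.Spor.Fi24) ≠ gen .l ∧
        Commute (gen .l) (x : Cfsg.Spor.Fi24) := hx
      obtain ⟨q, hq⟩ : (x : Cfsg.Spor.Fi24) ∈ Set.range (cls24 F).tp := (cls24 F).range_tp.symm ▸ hxc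
      have hq0 : (q : ℕ) ≠ 0 := fun h => hxne (by rw [← hq, show q = i₀ from Fin.ext h, tp_l])
      have hqA : (q : ℕ) < 31672 := by
        by_contra hge
        obtain ⟨h, hh, e'⟩ := orbB (i := ⟨31673, by norm_num⟩) (j := q) (by norm_num) (not_lt.1 hge)
        have hfix : π (gen .l) q = q := (comm_tp_l F q).1 (by rw [hq]; exact hxl)
        rw [← e', ← Equiv.Perm.mul_apply, ← map_mul, ← H_comm h hh, map_mul, Equiv.Perm.mul_apply,
          EmbeddingLike.apply_eq_iff_eq] at hfix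
        have := congrArg Fin.val hfix
        rw [π_gen] at this
        exact absurd this (by decide +kernel)
      obtain ⟨h, hh, hhq⟩ := orbA (i := ⟨1, by norm_num⟩) (j := q) ⟨le_rfl, by norm_num⟩ ⟨by omega, hqA⟩
      obtain ⟨u, hu⟩ := e.surjective (QuotientGroup.mk (⟨h, hh⟩ : H))
      refine ⟨u * Fi23.gen .a * u⁻¹, isConj_iff.2 ⟨u, rfl⟩, ?_⟩
      rw [hE _ ((⟨h, hh⟩ : H) * upH .a * (⟨h, hh⟩ : H)⁻¹) (by
        rw [map_mul, map_mul, map_inv, hu, he]; rfl)]
      refine congrArg _ (Subtype.ext ?_)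
      rw [hk, ← hq, ← hhq]
      show h * gen .a * h⁻¹ = (cls24 F).tp ((cls24 F).π h _)
      rw [← (cls24 F).conj_tp, show (cls24 F).tp ⟨1, _⟩ = gen .a from gen_tp F .a]
    · rintro ⟨_, hc, rfl⟩
      obtain ⟨u, rfl⟩ := isConj_iff.1 hc
      obtain ⟨h, hu⟩ := QuotientGroup.mk_surjective (e u)
      refine ⟨k (h * upH .a * h⁻¹), ?_, (hE _ _ (by rw [map_mul, map_mul, map_inv, ← hu, he]; rfl)).symm⟩
      obtain ⟨hac, hane, hal⟩ := gen_nb24 F (x := .a) (by decide) (by decide)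
      have hhl : (h : Cfsg.Spor.Fi24) * gen .l * (h : Cfsg.Spor.Fi24)⁻¹ = gen .l := by
        rw [H_comm h h.2, mul_inv_cancel_right]
      show (h : Cfsg.Spor.Fi24) * gen .a * (h : Cfsg.Spor.Fi24)⁻¹ ∈ S
      refine ⟨hac.trans (isConj_iff.2 ⟨_, rfl⟩), fun e' => hane ?_, ?_⟩
      · exact mul_left_cancel (mul_right_cancel (e'.trans hhl.symm))
      · have := hal.map (MulAut.conj (h : Cfsg.Spor.Fi24)).toMonoidHom
        simpa [hhl] using this
  rw [himg]
  exact typeM23_congr E _ typeM23.1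

/-- the generators of the reflection class -/
noncomputable def genNine (a : ℕ) : Cfsg.Spor.Fi24 := gen (Fi24.allGens.getD (a + 3) .b)

theorem genNine_facts : ∀ a < 9, idx (Fi24.allGens.getD (a + 3) .b) = 3 + a ∧
    Fi24.allGens.getD (a + 3) .b ∈ hGens ∧ Fi24.allGens.getD (a + 3) .b ≠ .l ∧
    Fi24.allGens.getD (a + 3) .b ≠ .k ∧ coxLabel Fi24.edges .k (Fi24.allGens.getD (a + 3) .b) = 2 ∧
    [0, 31673, 1, 3, 5, 142, 266, 268, 367, 435, 157, 799].getD (3 + a) 0 = tableTwentyFour.pt a := by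
  decide +kernel

theorem okGen24_all : ∀ a < 9, tableTwentyFour.okGen (fun a B => sys.act (Nat.add 3 a) B) a = true := by
  intro a ha
  interval_cases a
  exacts [okGen24_0, okGen24_1, okGen24_2, okGen24_3, okGen24_4, okGen24_5, okGen24_6, okGen24_7, okGen24_8]

theorem outer_word : (∀ k ∈ outerWord, k < 12) ∧ sys.ptW outerWord 0 = outerPoint ∧ outerPoint < 306936 ∧
    outerPoint ≠ 0 ∧ outerPoint ≠ 31673 := by decide +kernel

theorem outer_fix : sys.pt 0 outerPoint = outerPoint ∧ sys.pt 1 outerPoint = outerPoint ∧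
    sys.pt 3 outerPoint = outerImage := by decide +kernel

theorem outer_moves : sys.ptW outerWord (sys.pt 0 (sys.ptW outerWord.reverse (tableTwentyFour.pt 0))) = outerImage := by
  decide +kernel

theorem outer_new : allBelow tableTwentyFour.m (fun i => !Nat.beq outerImage (tableTwentyFour.pt i)) = true := by
  decide +kernel

theorem outer_image_eq (q : Fin 306936) (hq : (q : ℕ) = outerPoint) (i : Fin 306936) :
    ((π ((cls24 F).tp q) i : Fin _) : ℕ) = sys.ptW outerWord (sys.pt 0 (sys.ptW outerWord.reverse i)) := by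
  obtain ⟨u, hu⟩ : ∃ u : List Fi24.Gen, u.map idx = outerWord := by
    refine ⟨outerWord.map fun k => Fi24.allGens.getD k .l, ?_⟩
    decide +kernel
  have h1 : ∀ j : Fin 306936, ((π ((u.reverse.map gen).prod) j : Fin _) : ℕ) = sys.ptW outerWord j := fun j => by
    rw [π_word, List.map_reverse, List.reverse_reverse, hu]
  have h2 : ∀ j : Fin 306936, ((π ((u.reverse.map gen).prod)⁻¹ j : Fin _) : ℕ) = sys.ptW outerWord.reverse j := fun j => by
    rw [← prod_reverse_of_invol gen gen_sq, List.reverse_reverse, π_word, hu]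
  have hx : π ((u.reverse.map gen).prod) (cls24 F).i₀ = q := Fin.ext (by
    rw [h1, hq]; exact outer_word.2.1)
  rw [(cls24 F).tp_of_eq hx]
  show ((π ((u.reverse.map gen).prod * gen .l * ((u.reverse.map gen).prod)⁻¹) i : Fin _) : ℕ) = _
  rw [map_mul, map_mul, Equiv.Perm.mul_apply, Equiv.Perm.mul_apply, h1, π_gen, h2]
  rfl

include F in
theorem card_C24 : Nat.card ↥(Subgroup.centralizer ({gen .l} : Set Cfsg.Spor.Fi24) ⊓
    Subgroup.centralizer {gen .k}) ≤ 29713078886400 := by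
  obtain ⟨-, -, hcard, -⟩ := exists_quot24 F
  rw [centralizer_l F]
  set C := H ⊓ Subgroup.centralizer ({gen .k} : Set Cfsg.Spor.Fi24)
  have hk31 : (cls24 F).tp ⟨31673, by norm_num⟩ = gen .k := gen_tp F .k
  let f : ↥H ⧸ C.subgroupOf H → {p : Fin 306936 // 31672 ≤ (p : ℕ)} := Quotient.lift
    (fun h : ↥H => (⟨π (h : Cfsg.Spor.Fi24) ⟨31673, by norm_num⟩, by
      by_contra hlt
      by_cases h0 : ((π (h : Cfsg.Spor.Fi24) ⟨31673, by norm_num⟩ : Fin _) : ℕ) = 0
      · have := congrArg Fin.val ((π (h : Cfsg.Spor.Fi24)).injective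
          ((Fin.ext h0 : π (h : Cfsg.Spor.Fi24) ⟨31673, by norm_num⟩ = i₀).trans (Fi24.H_fix _ h.2).symm))
        exact absurd this (by decide)
      · have hfix : π (gen .l) (π (h : Cfsg.Spor.Fi24) ⟨31673, by norm_num⟩) = π (h : Cfsg.Spor.Fi24) ⟨31673, by norm_num⟩ := by
          obtain ⟨h', hh', e⟩ := orbA (i := ⟨1, by norm_num⟩) (j := π (h : Cfsg.Spor.Fi24) ⟨31673, by norm_num⟩)
            ⟨le_rfl, by norm_num⟩ ⟨by omega, by omega⟩
          rw [← e, ← Equiv.Perm.mul_apply, ← map_mul, ← H_comm h' hh', map_mul, Equiv.Perm.mul_apply]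
          refine congrArg _ (Fin.ext ?_)
          rw [π_gen]
          decide +kernel
        rw [← Equiv.Perm.mul_apply, ← map_mul, ← H_comm _ h.2, map_mul, Equiv.Perm.mul_apply,
          EmbeddingLike.apply_eq_iff_eq] at hfix
        have := congrArg Fin.val hfix
        rw [π_gen] at this
        exact absurd this (by decide +kernel)⟩ : {p : Fin 306936 // 31672 ≤ (p : ℕ)}))
    (fun a b hab => Subtype.ext (by
      have hab' : (QuotientGroup.leftRel (C.subgroupOf H)) a b := hab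
      rw [QuotientGroup.leftRel_apply, Subgroup.mem_subgroupOf] at hab'
      have hc := Subgroup.mem_centralizer_singleton_iff.1 hab'.2
      have hf : π ((a : Cfsg.Spor.Fi24)⁻¹ * (b : Cfsg.Spor.Fi24)) ⟨31673, by norm_num⟩ = ⟨31673, by norm_num⟩ :=
        ((cls24 F).commute_tp_iff _ _).1 (show Commute _ _ by rw [hk31]; exact hc)
      rw [map_mul, map_inv, Equiv.Perm.mul_apply, Equiv.Perm.inv_eq_iff_eq] at hf
      exact hf.symm))
  have hf : Function.Surjective f := by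
    rintro ⟨p, hp⟩
    obtain ⟨h, hh, e⟩ := orbB (i := ⟨31673, by norm_num⟩) (j := p) (by norm_num) hp
    exact ⟨QuotientGroup.mk (⟨h, hh⟩ : ↥H), Subtype.ext e⟩
  haveI : Finite ↥H := Nat.finite_of_card_ne_zero (by omega)
  have h1 : 275264 ≤ Nat.card (↥H ⧸ C.subgroupOf H) := by
    refine le_trans ?_ (Nat.card_le_card_of_surjective f hf)
    conv_lhs => rw [← Nat.card_fin 275264]
    refine Nat.card_le_card_of_injective
      (fun i => ⟨⟨(i : ℕ) + 31672, by omega⟩, by simp⟩) fun i j e => Fin.ext ?_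
    simpa using congrArg (fun x : {p : Fin 306936 // 31672 ≤ (p : ℕ)} => (x.1 : ℕ)) e
  have h2 := (C.subgroupOf H).card_mul_index
  rw [Subgroup.index_eq_card, Nat.card_congr (Subgroup.subgroupOfEquivOfLe inf_le_left).toEquiv, hcard] at h2
  nlinarith

include F in
theorem typeM24 : Cfsg.IsOfTypeM24 Cfsg.Spor.Fi24 (conjugatesOf (gen (.l : Fi24.Gen))) := by
  obtain ⟨-, -, hcard, -⟩ := exists_quot24 F
  haveI : Finite Cfsg.Spor.Fi24 := Nat.finite_of_card_ne_zero (by
    rw [← Subgroup.card_mul_index H, hcard, F.index_H]; norm_num)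
  refine ⟨center24 F, gen .l, gen_mem F .l, gen .k, gen_mem F .k, fun h => ?_, typeM23_nb F, ?_⟩
  · rw [← gen_tp F .k, comm_tp_l F] at h
    have := congrArg Fin.val h
    rw [π_gen] at this
    exact absurd this (by decide +kernel)
  set C := Subgroup.centralizer ({gen .l} : Set Cfsg.Spor.Fi24) ⊓ Subgroup.centralizer {gen .k} with hC
  obtain ⟨hu, hq0, hlt, hne0, hnek⟩ := outer_word
  obtain ⟨hfl, hfk, hs0⟩ := outer_fix
  set q : Fin 306936 := ⟨outerPoint, hlt⟩ with hq
  set t := (cls24 F).tp q with ht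
  have hpt : ∀ a < 9, ∀ h : tableTwentyFour.pt a < 306936, (cls24 F).tp ⟨tableTwentyFour.pt a, h⟩ = genNine a := by
    intro a ha h
    obtain ⟨e1, -, -, -, -, e6⟩ := genNine_facts a ha
    rw [genNine, ← gen_tp F]
    refine congrArg _ (Fin.ext ?_)
    show _ = List.getD _ _ _
    rw [e1, e6]
  have hgC : ∀ a < 9, genNine a ∈ C := fun a ha => by
    obtain ⟨-, e2, -, -, e5, -⟩ := genNine_facts a ha
    exact ⟨Subgroup.mem_centralizer_singleton_iff.2 (comm_l e2),
      Subgroup.mem_centralizer_singleton_iff.2 (comm24 e5).symm⟩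
  have htl : Commute (gen .l) t := (comm_tp_l F q).2 (Fin.ext (by rw [π_gen]; exact hfl))
  have htk : Commute (gen .k) t := ((cls24 F).commute_tp_iff _ _).2 (Fin.ext (by
    show ((π (gen .k) q : Fin _) : ℕ) = _
    rw [π_gen]; exact hfk))
  have htC : t ∈ C := ⟨Subgroup.mem_centralizer_singleton_iff.2 htl.eq.symm,
    Subgroup.mem_centralizer_singleton_iff.2 htk.eq.symm⟩
  have hsq : ∀ p, (cls24 F).tp p * (cls24 F).tp p = 1 := fun p => by
    obtain ⟨w, rfl⟩ := Fi24.transitive p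
    rw [show (cls24 F).tp (π w i₀) = w * gen .l * w⁻¹ from (cls24 F).tp_of_eq (g := w) rfl]
    rw [show w * gen .l * w⁻¹ * (w * gen .l * w⁻¹) = w * (gen .l * gen .l) * w⁻¹ by group, gen_sq]
    group
  have h0 : tableTwentyFour.pt 0 < 306936 := by decide +kernel
  have hs : genNine 0 = (cls24 F).tp ⟨_, h0⟩ := (hpt 0 (by norm_num) h0).symm
  have hmov : ((π t ⟨_, h0⟩ : Fin _) : ℕ) = outerImage := by
    rw [ht, outer_image_eq F q rfl]; exact outer_moves
  have hbr : genNine 0 * t * genNine 0 = t * genNine 0 * t := by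
    have e := braid_of_pt F (p := ⟨_, h0⟩) (q := q) (Fin.ext (by
      rw [← hs, ← ht, hmov]
      rw [genNine, π_gen, (genNine_facts 0 (by norm_num)).1]
      exact hs0))
    rw [inv_eq_of_mul_eq_one_left (hsq _), inv_eq_of_mul_eq_one_left (hsq _), ← hs, ← ht] at e
    exact e
  obtain ⟨hgen, N, hN, hN1, hN2⟩ := trio_sound (cls24 F) tableTwentyFour (g := 9) (by norm_num)
    (by decide +kernel) genNine (fun a B => sys.act (Nat.add 3 a) B)
    (fun a ha B i => by
      rw [Sys.testBit_act okNets]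
      show B.testBit _ = B.testBit ((π (genNine a) i : Fin _) : ℕ)
      rw [genNine, π_gen, (genNine_facts a ha).1]
      rfl)
    hpt okIndex24 okMove24
    okGen24_all
    okCode24 t (hsq q) (by rw [hs]; exact hsq _) hbr
    (fun h i hi e => by
      have := allBelow_spec outer_new i hi
      rw [show outerImage = tableTwentyFour.pt i from hmov.symm.trans e, Nat.beq_refl] at this
      exact Bool.noConfusion this)
    C hgC htC (card_C24 F)
  have hL : Subgroup.closure ({y : Cfsg.Spor.Fi24 | y ∈ conjugatesOf (gen .l) ∧ y ≠ gen .l ∧ Commute (gen .l) y} ∩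
      {y : Cfsg.Spor.Fi24 | y ∈ conjugatesOf (gen .l) ∧ y ≠ gen .k ∧ Commute (gen .k) y}) = C := by
    refine le_antisymm ((Subgroup.closure_le _).2 fun y hy => ⟨Subgroup.mem_centralizer_singleton_iff.2 hy.1.2.2.eq.symm,
      Subgroup.mem_centralizer_singleton_iff.2 hy.2.2.2.eq.symm⟩) (hgen ▸ Subgroup.closure_mono ?_)
    rintro _ (rfl | ⟨a, ha, rfl⟩)
    · have hmem : t ∈ conjugatesOf (gen .l) := (cls24 F).range_tp.le ⟨q, rfl⟩
      refine ⟨⟨hmem, fun e => hne0 ?_, htl⟩, hmem, fun e => hnek ?_, htk⟩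
      · exact congrArg Fin.val ((cls24 F).tp_injective (e.trans (tp_l F).symm))
      · exact congrArg Fin.val ((cls24 F).tp_injective (e.trans (gen_tp F .k).symm))
    · obtain ⟨-, e2, e3, e4, e5, -⟩ := genNine_facts a ha
      refine ⟨gen_nb24 F e2 e3, gen_mem F _, fun e => e4 ?_, comm24 e5⟩
      rw [genNine, ← gen_tp F, ← gen_tp F .k] at e
      have e' := congrArg Fin.val ((cls24 F).tp_injective e)
      revert e'
      generalize Fi24.allGens.getD (a + 3) .b = x
      cases x <;> decide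
  exact transfer_ext hL ⟨N, hN, hN1, hN2⟩

end CfsgLib.Spor.FischerTypes
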