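import Cfsg.Agent.Lib.Spor.FischerTypes.Points
import Cfsg.Agent.Lib.Spor.Fi24.Perm
import Cfsg.Agent.Lib.Spor.Fi23.Simple

/-!
The transpositions of the presented group `Fi24` as points: the centraliser of `l`, its centre and the three
orbits. The index of the subgroup and one relation inside it are taken as hypotheses.
-/

set_option autoImplicit false
set_option Elab.async false
set_option maxRecDepth 100000

namespace CfsgLib.Spor.FischerTypes

open CfsgLib.BitPerm CfsgLib.PresCert Cfsg.Spor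
open CfsgLib.Spor.Fi24 (π π_gen π_word idx gen gen_sq H hGens sys i₀ hIdx opsA opsB okNets)

/-- the letters of `Fi23` among those of `Fi24` -/
def up : Fi23.Gen → Fi24.Gen
  | .a => .a | .b => .b | .c => .c | .d => .d | .e => .e | .f => .f | .g => .g | .j => .j | .h => .h | .i => .i

/-- the word of the spider relation -/
def spiderWord : List Fi24.Gen := (List.replicate 10 [.d, .c, .b, .d, .e, .f, .d, .h, .i]).flatten

/-- what is needed from the enumeration of the cosets -/
structure CosetFacts : Prop where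
  index_H : H.index = 306936
  spider : (spiderWord.map gen).prod ∈ Subgroup.zpowers (gen .l)

theorem cox24 (x y : Fi24.Gen) : (gen x * gen y) ^ coxLabel Fi24.edges x y = 1 :=
  pgen_cox (Fi24.mem_nodes x) (Fi24.mem_nodes y)

theorem comm24 {x y : Fi24.Gen} (h : coxLabel Fi24.edges x y = 2) : gen x * gen y = gen y * gen x := by
  have h2 := cox24 x y
  rw [h, pow_two] at h2
  calc gen x * gen y = (gen y)⁻¹ * (gen x)⁻¹ := by
        rw [← mul_inv_rev]; exact eq_inv_of_mul_eq_one_left h2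
    _ = gen y * gen x := by
        rw [inv_eq_of_mul_eq_one_left (gen_sq x), inv_eq_of_mul_eq_one_left (gen_sq y)]

theorem braid24 {x y : Fi24.Gen} (h : coxLabel Fi24.edges x y = 3) :
    (gen x * gen y) * gen x * (gen x * gen y)⁻¹ = gen y := by
  have h3 := cox24 x y
  rw [h] at h3
  rw [mul_inv_rev, inv_eq_of_mul_eq_one_left (gen_sq x), inv_eq_of_mul_eq_one_left (gen_sq y)]
  have hy := inv_eq_of_mul_eq_one_left (gen_sq y)
  have e : (gen x * gen y) ^ 3 = gen x * gen y * gen x * (gen y * gen x) * gen y := by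
    simp [pow_succ, mul_assoc]
  rw [e] at h3
  exact (eq_inv_of_mul_eq_one_left h3).trans hy

theorem comm_l {x : Fi24.Gen} (hx : x ∈ hGens) : gen x * gen .l = gen .l * gen x := by
  revert hx
  cases x <;> intro hx
  all_goals first
    | rfl
    | exact comm24 (by decide)
    | exact absurd hx (by decide)

theorem H_comm : ∀ h ∈ H, h * gen .l = gen .l * h := by
  intro h hh
  have hle : H ≤ Subgroup.centralizer ({gen .l} : Set Cfsg.Spor.Fi24) := by
    rw [H, lettersGroup, Subgroup.closure_le]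
    rintro _ ⟨x, hx, rfl⟩
    exact Subgroup.mem_centralizer_singleton_iff.2 (comm_l hx)
  exact Subgroup.mem_centralizer_singleton_iff.1 (hle hh)

theorem moves_a : π (gen .a) ≠ π (gen .l) := fun e => by
  have := congrArg (fun σ : Equiv.Perm (Fin 306936) => ((σ ⟨31673, by norm_num⟩ : Fin _) : ℕ)) e
  simp only [π_gen] at this
  exact absurd this (by decide +kernel)

theorem moves_k : π (gen .k) ≠ π (gen .l) := fun e => by
  have := congrArg (fun σ : Equiv.Perm (Fin 306936) => ((σ i₀ : Fin _) : ℕ)) e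
  simp only [π_gen] at this
  exact absurd this (by decide +kernel)

theorem l_ne_one : gen (.l : Fi24.Gen) ≠ 1 := fun e => by
  have := congrArg (fun q => ((π q ⟨31673, by norm_num⟩ : Fin _) : ℕ)) e
  simp only [π_gen, map_one, Equiv.Perm.one_apply] at this
  exact absurd this (by decide +kernel)

/-- a word to the first orbit -/
noncomputable def toA : Cfsg.Spor.Fi24 := (gen .k * gen .a) * (gen .l * gen .k)

/-- a word to the second orbit -/
noncomputable def toK : Cfsg.Spor.Fi24 := gen .l * gen .k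

theorem conj_toK : toK * gen .l * toK⁻¹ = gen .k := braid24 (by decide)

theorem conj_toA : toA * gen .l * toA⁻¹ = gen .a := by
  rw [show toA * gen .l * toA⁻¹ = (gen .k * gen .a) * (toK * gen .l * toK⁻¹) * (gen .k * gen .a)⁻¹ by
    rw [toA, toK]; group, conj_toK]
  exact braid24 (by decide)

theorem π_toK : ((π toK i₀ : Fin _) : ℕ) = 31673 := by
  rw [toK, map_mul, Equiv.Perm.mul_apply, π_gen, π_gen]
  decide +kernel

theorem π_toA : ((π toA i₀ : Fin _) : ℕ) = 1 := by
  rw [toA, map_mul, map_mul, map_mul, Equiv.Perm.mul_apply, Equiv.Perm.mul_apply, Equiv.Perm.mul_apply,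
    π_gen, π_gen, π_gen, π_gen]
  decide +kernel

theorem opsA_sub : ∀ x ∈ opsA, x ∈ hIdx := by decide +kernel

theorem opsB_sub : ∀ x ∈ opsB, x ∈ hIdx := by decide +kernel

theorem hIdx_gen : ∀ k ∈ hIdx, ∃ x ∈ hGens, idx x = k := by decide +kernel

theorem exists_H_word {w : List ℕ} (hw : ∀ k ∈ w, k ∈ hIdx) :
    ∃ h ∈ H, ∀ i : Fin 306936, ((π h i : Fin _) : ℕ) = sys.ptW w i := by
  obtain ⟨u, hu, rfl⟩ : ∃ u : List Fi24.Gen, (∀ x ∈ u, x ∈ hGens) ∧ u.map idx = w := by
    induction w with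
    | nil => exact ⟨[], by simp, rfl⟩
    | cons k w ih =>
      obtain ⟨x, hx, rfl⟩ := hIdx_gen k (hw _ (List.mem_cons_self ..))
      obtain ⟨u, hu, rfl⟩ := ih fun y hy => hw y (List.mem_cons_of_mem _ hy)
      exact ⟨x :: u, List.forall_mem_cons.2 ⟨hx, hu⟩, rfl⟩
  refine ⟨(u.reverse.map gen).prod, list_prod_mem fun q hq => ?_, fun i => ?_⟩
  · obtain ⟨x, hx, rfl⟩ := List.mem_map.1 hq
    exact Subgroup.subset_closure ⟨x, hu x (List.mem_reverse.1 hx), rfl⟩
  · rw [π_word, List.map_reverse, List.reverse_reverse]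

theorem orbA {i j : Fin 306936} (hi : 1 ≤ (i : ℕ) ∧ (i : ℕ) < 31672) (hj : 1 ≤ (j : ℕ) ∧ (j : ℕ) < 31672) :
    ∃ h ∈ H, π h i = j := by
  have reach : ∀ i : Fin 306936, 1 ≤ (i : ℕ) ∧ (i : ℕ) < 31672 → ∃ h ∈ H, ((π h i : Fin _) : ℕ) = 1 := fun i hi => by
    obtain ⟨w, hw, e⟩ := Sys.orbit_reach okNets (by norm_num) Fi24.opsA_ok hi.1 hi.2
    obtain ⟨h, hh, he⟩ := exists_H_word fun k hk => opsA_sub k (hw k hk)
    exact ⟨h, hh, by rw [he, e]⟩
  obtain ⟨h, hh, e⟩ := reach i hi
  obtain ⟨h', hh', e'⟩ := reach j hj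
  refine ⟨h'⁻¹ * h, H.mul_mem (H.inv_mem hh') hh, ?_⟩
  rw [map_mul, map_inv, Equiv.Perm.mul_apply, Equiv.Perm.inv_eq_iff_eq]
  exact Fin.ext (e.trans e'.symm)

theorem orbB {i j : Fin 306936} (hi : 31672 ≤ (i : ℕ)) (hj : 31672 ≤ (j : ℕ)) : ∃ h ∈ H, π h i = j := by
  have reach : ∀ i : Fin 306936, 31672 ≤ (i : ℕ) → ∃ h ∈ H, ((π h i : Fin _) : ℕ) = 31672 := fun i hi => by
    obtain ⟨w, hw, e⟩ := Sys.orbit_reach okNets (by norm_num) Fi24.opsB_ok hi i.2
    obtain ⟨h, hh, he⟩ := exists_H_word fun k hk => opsB_sub k (hw k hk)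
    exact ⟨h, hh, by rw [he, e]⟩
  obtain ⟨h, hh, e⟩ := reach i hi
  obtain ⟨h', hh', e'⟩ := reach j hj
  refine ⟨h'⁻¹ * h, H.mul_mem (H.inv_mem hh') hh, ?_⟩
  rw [map_mul, map_inv, Equiv.Perm.mul_apply, Equiv.Perm.inv_eq_iff_eq]
  exact Fin.ext (e.trans e'.symm)

theorem mem_H_of_fix (F : CosetFacts) {g : Cfsg.Spor.Fi24} (hg : π g i₀ = i₀) : g ∈ H := by
  obtain ⟨φ, hφ⟩ := coset_bijection π H i₀ Fi24.H_fix F.index_H Fi24.transitive
  have : φ (g : Cfsg.Spor.Fi24 ⧸ H) = φ ((1 : Cfsg.Spor.Fi24) : Cfsg.Spor.Fi24 ⧸ H) := by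
    rw [hφ, hφ, map_one, Equiv.Perm.one_apply, hg]
  simpa using QuotientGroup.eq.1 (φ.injective this).symm

theorem fix_of_comm (F : CosetFacts) {g : Cfsg.Spor.Fi24} (hg : g * gen .l = gen .l * g) : π g i₀ = i₀ := by
  by_contra hne
  have key : ∀ (r : Cfsg.Spor.Fi24) (h : Cfsg.Spor.Fi24), h ∈ H → π h (π r i₀) = π g i₀ →
      π (r * gen .l * r⁻¹) = π (gen .l) := by
    intro r h hh e
    have hu : (h * r)⁻¹ * g ∈ H := mem_H_of_fix F (by
      rw [map_mul, map_inv, map_mul, Equiv.Perm.mul_apply, Equiv.Perm.inv_eq_iff_eq, Equiv.Perm.mul_apply, e])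
    have e' : r * gen .l * r⁻¹ = gen .l := by
      have c1 := H_comm _ hu
      have c2 := H_comm h hh
      calc r * gen .l * r⁻¹ = h⁻¹ * ((h * r) * (gen .l * ((h * r)⁻¹ * g)) * g⁻¹) * h := by group
        _ = h⁻¹ * ((h * r) * (((h * r)⁻¹ * g) * gen .l) * g⁻¹) * h := by rw [c1]
        _ = h⁻¹ * (g * gen .l * g⁻¹) * h := by group
        _ = h⁻¹ * gen .l * h := by rw [hg, mul_inv_cancel_right]
        _ = gen .l := by rw [mul_assoc, ← c2, inv_mul_cancel_left]
    rw [e']
  have hpos : 1 ≤ ((π g i₀ : Fin _) : ℕ) := Nat.one_le_iff_ne_zero.2 fun h => hne (Fin.ext h)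
  by_cases h : ((π g i₀ : Fin _) : ℕ) < 31672
  · obtain ⟨u, hu, e⟩ := orbA (i := π toA i₀) (by rw [π_toA]; norm_num) ⟨hpos, h⟩
    exact moves_a (conj_toA ▸ key toA u hu e)
  · obtain ⟨u, hu, e⟩ := orbB (i := π toK i₀) (by rw [π_toK]; norm_num) (not_lt.1 h)
    exact moves_k (conj_toK ▸ key toK u hu e)

/-- the transpositions as points -/
noncomputable def cls24 (F : CosetFacts) : PointClass Cfsg.Spor.Fi24 306936 where
  π := π
  z := gen .l
  i₀ := i₀
  trans := Fi24.transitive
  stab g := ⟨fun h => H_comm g (mem_H_of_fix F h), fix_of_comm F⟩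

theorem centralizer_l (F : CosetFacts) : Subgroup.centralizer ({gen .l} : Set Cfsg.Spor.Fi24) = H :=
  le_antisymm (fun _ hx => mem_H_of_fix F (fix_of_comm F (Subgroup.mem_centralizer_singleton_iff.1 hx)))
    fun h hh => Subgroup.mem_centralizer_singleton_iff.2 (H_comm h hh)

/-- `l` inside the subgroup -/
noncomputable def lH : H := ⟨gen .l, Subgroup.subset_closure ⟨.l, by decide, rfl⟩⟩

theorem lH_central : lH ∈ Subgroup.center H :=
  Subgroup.mem_center_iff.2 fun h => Subtype.ext (H_comm h h.2)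

theorem normal_lH : (Subgroup.zpowers lH).Normal := ⟨fun x hx g => by
  rwa [Subgroup.mem_center_iff.1 ((Subgroup.zpowers_le.2 lH_central) hx) g, mul_inv_cancel_right]⟩

theorem up_mem (x : Fi23.Gen) : up x ∈ hGens := by cases x <;> decide

/-- a generator of `Fi23` inside the subgroup -/
noncomputable def upH (x : Fi23.Gen) : H := ⟨gen (up x), Subgroup.subset_closure ⟨_, up_mem x, rfl⟩⟩

theorem upH_sq (x : Fi23.Gen) : upH x * upH x = 1 := Subtype.ext (gen_sq _)

theorem coe_upH (w : List Fi23.Gen) :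
    (((w.map upH).prod : H) : Cfsg.Spor.Fi24) = ((w.map up).map gen).prod := by
  induction w with
  | nil => rfl
  | cons x w ih =>
    rw [List.map_cons, List.prod_cons, Subgroup.coe_mul, ih, List.map_cons, List.map_cons, List.prod_cons]
    rfl

theorem up_label (x y : Fi23.Gen) : coxLabel Fi24.edges (up x) (up y) = coxLabel Fi23.edges x y := by
  cases x <;> cases y <;> decide

theorem seven_l : (Fi24.sevenNine.map gen).prod = gen (.l : Fi24.Gen) := by
  have h := Fi24.gen_known (.l :: Fi24.sevenNine.reverse)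
    (List.mem_append_right _ (List.mem_cons_self ..))
  rw [List.map_cons, List.prod_cons, prod_reverse_of_invol gen gen_sq, mul_inv_eq_one] at h
  exact h.symm

theorem exists_quot24 (F : CosetFacts) : ∃ e : Cfsg.Spor.Fi23 ≃* H ⧸ Subgroup.center H,
    (∀ x, e (Fi23.gen x) = QuotientGroup.mk (upH x)) ∧ Nat.card H = 2 * 4089470473293004800 ∧
    Subgroup.center H = Subgroup.zpowers lH := by
  haveI := Fi23.isFi23.1
  haveI := normal_lH
  let q := QuotientGroup.mk' (Subgroup.zpowers lH)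
  let f : Fi23.Gen → H ⧸ Subgroup.zpowers lH := fun x => q (upH x)
  have hlift : ∀ w : List Fi23.Gen, ((w.map up).map gen).prod ∈ Subgroup.zpowers (gen .l) →
      (w.map f).prod = 1 := by
    intro w hw
    obtain ⟨k, hk⟩ := Subgroup.mem_zpowers_iff.1 hw
    rw [show (w.map f).prod = q (w.map upH).prod by rw [map_list_prod, List.map_map]; rfl]
    refine (QuotientGroup.eq_one_iff _).2 (Subgroup.mem_zpowers_iff.2 ⟨k, Subtype.ext ?_⟩)
    rw [coe_upH, ← hk, SubgroupClass.coe_zpow]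
    rfl
  have hsq : ∀ x, f x * f x = 1 := fun x => by rw [← map_mul, upH_sq, map_one]
  have hrel : ∀ r ∈ coxRelators Fi23.edges ∪ {r | r ∈ Fi23.extra}, FreeGroup.lift f r = 1 := by
    rintro r (⟨x, hx, y, hy, rfl⟩ | hr)
    · have := hlift ((List.replicate (coxLabel Fi23.edges x y) [x, y]).flatten) (by
        rw [List.map_map, prod_map_replicate_pair, ← up_label]
        show (gen (up x) * gen (up y)) ^ _ ∈ _
        rw [cox24]
        exact one_mem _)
      rw [prod_map_replicate_pair] at this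
      simpa [f] using this
    · have e := Fi23.wordsFor f hsq
      have hmem : FreeGroup.lift f r ∈ Fi23.extraW.map fun w => (w.map f).prod :=
        e ▸ List.mem_map.2 ⟨r, hr, rfl⟩
      obtain ⟨w, hw, e'⟩ := List.mem_map.1 hmem
      rw [← e']
      simp only [Fi23.extraW, List.mem_cons, List.not_mem_nil, or_false] at hw
      rcases hw with rfl | rfl
      · exact hlift _ (by rw [show List.map up _ = spiderWord from rfl]; exact F.spider)
      · exact hlift _ (by
          rw [show List.map up _ = Fi24.sevenNine from rfl, seven_l]; exact Subgroup.mem_zpowers _)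
  let φ : Cfsg.Spor.Fi23 →* H ⧸ Subgroup.zpowers lH := PresentedGroup.toGroup hrel
  have hof : ∀ x, φ (Fi23.gen x) = q (upH x) := fun x => PresentedGroup.toGroup.of _
  have hsur : Function.Surjective φ := by
    intro u
    obtain ⟨⟨h, hh⟩, rfl⟩ := QuotientGroup.mk'_surjective _ u
    induction hh using Subgroup.closure_induction with
    | mem y hy =>
      obtain ⟨x, hx, rfl⟩ := hy
      simp only [hGens, List.mem_cons, List.not_mem_nil, or_false] at hx
      rcases hx with rfl | rfl | rfl | rfl | rfl | rfl | rfl | rfl | rfl | rfl | rfl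
      · exact ⟨1, by rw [map_one]; exact ((QuotientGroup.eq_one_iff lH).2 (Subgroup.mem_zpowers _)).symm⟩
      exacts [⟨_, hof .a⟩, ⟨_, hof .b⟩, ⟨_, hof .c⟩, ⟨_, hof .d⟩, ⟨_, hof .e⟩, ⟨_, hof .f⟩, ⟨_, hof .g⟩,
        ⟨_, hof .j⟩, ⟨_, hof .h⟩, ⟨_, hof .i⟩]
    | one => exact ⟨1, by rw [map_one]; rfl⟩
    | mul a b ha hb iha ihb =>
      obtain ⟨u, hu⟩ := iha
      obtain ⟨v, hv⟩ := ihb
      exact ⟨u * v, by rw [map_mul, hu, hv]; rfl⟩
    | inv a ha iha =>
      obtain ⟨u, hu⟩ := iha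
      exact ⟨u⁻¹, by rw [map_inv, hu]; rfl⟩
  have hl2 : lH * lH = 1 := Subtype.ext (gen_sq _)
  have hord : orderOf lH = 2 := orderOf_eq_prime (by rw [pow_two]; exact hl2)
    fun h => l_ne_one (congrArg Subtype.val h)
  have ha : φ (Fi23.gen .a) ≠ 1 := by
    intro h
    rw [hof] at h
    obtain ⟨k, hk⟩ := Subgroup.mem_zpowers_iff.1 ((QuotientGroup.eq_one_iff _).1 h)
    rw [← zpow_mod_orderOf, hord] at hk
    rcases Int.emod_two_eq_zero_or_one k with e | e <;> rw [Nat.cast_ofNat, e] at hk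
    · have := congrArg (fun q : H => ((π (q : Cfsg.Spor.Fi24) ⟨31673, by norm_num⟩ : Fin _) : ℕ)) hk
      simp only [zpow_zero, OneMemClass.coe_one, map_one, Equiv.Perm.one_apply, upH, up, π_gen] at this
      exact absurd this (by decide +kernel)
    · rw [zpow_one] at hk
      exact moves_a (congrArg (fun q : H => π (q : Cfsg.Spor.Fi24)) hk).symm
  have hinj : Function.Injective φ := by
    rw [← MonoidHom.ker_eq_bot_iff]
    refine (φ.normal_ker.eq_bot_or_eq_top).resolve_right fun h => ha ?_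
    exact (h ▸ Subgroup.mem_top _ : Fi23.gen .a ∈ φ.ker)
  let e₀ := MulEquiv.ofBijective φ ⟨hinj, hsur⟩
  have hcz : Subgroup.center Cfsg.Spor.Fi23 = ⊥ := by
    refine ((inferInstance : (Subgroup.center Cfsg.Spor.Fi23).Normal).eq_bot_or_eq_top).resolve_right fun h => ?_
    have hcomm : Fi23.gen .a * Fi23.gen .b = Fi23.gen .b * Fi23.gen .a :=
      Subgroup.mem_center_iff.1 (h ▸ Subgroup.mem_top (Fi23.gen .b)) _
    have := congrArg φ hcomm
    rw [map_mul, map_mul, hof, hof, ← map_mul, ← map_mul] at this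
    obtain ⟨k, hk⟩ := Subgroup.mem_zpowers_iff.1 (QuotientGroup.eq.1 this)
    have e2 : π ((gen .a * gen .b)⁻¹ * (gen .b * gen .a) : Cfsg.Spor.Fi24) i₀ = i₀ ∧
        ((π ((gen .a * gen .b)⁻¹ * (gen .b * gen .a) : Cfsg.Spor.Fi24) ⟨3, by norm_num⟩ : Fin _) : ℕ) = 3 := by
      rw [show (gen .a * gen .b)⁻¹ * (gen .b * gen .a) = (gen .l : Cfsg.Spor.Fi24) ^ k from
        (congrArg Subtype.val hk).symm.trans (SubgroupClass.coe_zpow _ _)]
      rw [map_zpow]
      have fx : ∀ p : Fin 306936, π (gen .l) p = p → ((π (gen .l)) ^ k) p = p := fun p hp =>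
        Function.IsFixedPt.perm_zpow hp k
      exact ⟨fx _ (Fin.ext (by rw [π_gen]; decide +kernel)),
        congrArg Fin.val (fx _ (Fin.ext (by rw [π_gen]; decide +kernel)))⟩
    have e3 := e2.2
    rw [mul_inv_rev, inv_eq_of_mul_eq_one_left (gen_sq (.a : Fi24.Gen)),
      inv_eq_of_mul_eq_one_left (gen_sq (.b : Fi24.Gen))] at e3
    simp only [map_mul, Equiv.Perm.mul_apply, π_gen] at e3
    exact absurd e3 (by decide +kernel)
  have hZ : Subgroup.center H = Subgroup.zpowers lH := by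
    refine le_antisymm (fun c hc => ?_) (Subgroup.zpowers_le.2 lH_central)
    have h1 : e₀.symm (q c) ∈ Subgroup.center Cfsg.Spor.Fi23 := Subgroup.mem_center_iff.2 fun w => by
      apply e₀.injective
      rw [map_mul, map_mul, e₀.apply_symm_apply]
      obtain ⟨v, hv⟩ := QuotientGroup.mk'_surjective (Subgroup.zpowers lH) (e₀ w)
      rw [← hv, ← map_mul, ← map_mul, Subgroup.mem_center_iff.1 hc v]
    rw [hcz, Subgroup.mem_bot, MulEquiv.map_eq_one_iff] at h1
    exact (QuotientGroup.eq_one_iff c).1 h1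
  refine ⟨e₀.trans (QuotientGroup.quotientMulEquivOfEq hZ.symm), fun x => ?_, ?_, hZ⟩
  · show QuotientGroup.quotientMulEquivOfEq hZ.symm (φ (Fi23.gen x)) = _
    rw [hof]
    rfl
  · rw [← Subgroup.card_mul_index (Subgroup.zpowers lH), Nat.card_zpowers, hord, Subgroup.index_eq_card,
      ← Nat.card_congr e₀.toEquiv, Fi23.isFi23.2]

end CfsgLib.Spor.FischerTypes
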