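import Cfsg.Agent.Lib.Spor.FischerTypes.Data22
import Cfsg.Agent.Lib.Spor.Fi22.Class

/-!
The presented Fischer group `Fi₂₂` is of type M(22).
-/

set_option autoImplicit false
set_option maxRecDepth 100000

namespace CfsgLib.Spor.FischerTypes

open CfsgLib.PresCert Cfsg.Spor
open CfsgLib.Spor.Fi22 (π π_gen π_word idx gen H i₀)
open CfsgLib.Spor.Fi22.Transp (ga)

/-- the transpositions of `Fi₂₂` as points -/
noncomputable def cls22 : PointClass Cfsg.Spor.Fi22 Fi22.Perm.data.n where
  π := π
  z := ga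
  i₀ := i₀
  trans := Fi22.transitive
  stab g := by
    rw [← CfsgLib.G2J2.mem_stab, Fi22.Transp.stab_eq, ← Fi22.Transp.centralizer_eq,
      Subgroup.mem_centralizer_singleton_iff]

/-- a generator by number -/
def genAt (k : ℕ) : Fi22.Gen := Fi22.allGens.getD k .a

theorem idx_genAt : ∀ k < 9, idx (genAt k) = k := by decide

/-- the evaluation of a word -/
noncomputable def app22 : List ℕ → ℕ → ℕ := Fi22.Perm.data.app

theorem word22 (u : List ℕ) (hu : ∀ k ∈ u, k < 9) :
    ∃ x : Cfsg.Spor.Fi22, (∀ i : Fin Fi22.Perm.data.n, ((π x i : Fin _) : ℕ) = app22 u i) ∧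
      ∀ i : Fin Fi22.Perm.data.n, ((π x⁻¹ i : Fin _) : ℕ) = app22 u.reverse i := by
  have hid : ∀ v : List ℕ, (∀ k ∈ v, k < 9) → (v.map genAt).map idx = v := fun v hv => by
    rw [List.map_map]
    exact (List.map_congr_left fun k hk => idx_genAt k (hv k hk)).trans (List.map_id _)
  refine ⟨((u.reverse.map genAt).map gen).prod, fun i => ?_, fun i => ?_⟩
  · rw [π_word, hid _ fun k hk => hu k (List.mem_reverse.1 hk), List.reverse_reverse]
    rfl
  · have hinv : ∀ y : Fi22.Gen, (gen y)⁻¹ = gen y := fun y => inv_eq_of_mul_eq_one_left (Fi22.gen_sq y)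
    have e : (((u.reverse.map genAt).map gen).map fun y : Cfsg.Spor.Fi22 => y⁻¹).reverse =
        (u.map genAt).map gen := by
      simp [Function.comp_def, hinv]
    rw [List.prod_inv_reverse, e, π_word, hid u hu]
    rfl

/-- the image under the transposition `a` -/
noncomputable def zimg22 (i : ℕ) : ℕ := Fi22.Perm.data.img 0 i

theorem okPts22 : tableTwentyTwo.okPts 9 Fi22.Perm.data.n app22 = true := by decide +kernel

theorem okOps22 : tableTwentyTwo.okOps app22 zimg22 = true := by decide +kernel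

theorem okScan22 : tableTwentyTwo.okScan Fi22.Perm.data.n app22 zimg22 = true := by decide +kernel

theorem okApart22 : tableTwentyTwo.okApart app22 zimg22 = true := by decide +kernel

theorem okSteps22 : tableTwentyTwo.okSteps tableTwentyTwo.gens tableTwentyTwo.steps = true := by decide +kernel

theorem okVecs22 : tableTwentyTwo.okVecs = true := by decide +kernel

theorem hasDet22 : tableTwentyTwo.weights = List.replicate 6 1 := rfl

theorem form22_nondeg : (QuadraticMap.polarBilin (formC 6 tableTwentyTwo)).Nondegenerate ∧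
    Cfsg.polarGramDet (⇑(formC 6 tableTwentyTwo)) = 1 := by
  have key : ∀ x y : Fin 6 → ZMod 3,
      QuadraticMap.polar (formC 6 tableTwentyTwo) x y = 2 * ∑ k : Fin 6, x k * y k := fun x y => by
    rw [polar_formC]
    congr 1
    refine Finset.sum_congr rfl fun k _ => ?_
    fin_cases k <;> simp [tableTwentyTwo]
  have hs : ∀ x : Fin 6 → ZMod 3, ∀ k : Fin 6,
      QuadraticMap.polar (formC 6 tableTwentyTwo) x (Pi.single k 1) = 2 * x k := fun x k => by
    rw [key]
    simp [Pi.single_apply]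
  have h22 : (2 : ZMod 3) * 2 = 1 := by decide
  refine ⟨⟨fun x hx => funext fun k => ?_, fun y hy => funext fun k => ?_⟩, ?_⟩
  · have h := hx (Pi.single k 1)
    rw [QuadraticMap.polarBilin_apply_apply, hs] at h
    rw [← one_mul (x k), ← h22, mul_assoc, h, mul_zero]
    rfl
  · have h := hy (Pi.single k 1)
    rw [QuadraticMap.polarBilin_apply_apply, QuadraticMap.polar_comm, hs] at h
    rw [← one_mul (y k), ← h22, mul_assoc, h, mul_zero]
    rfl
  · have hm : (Matrix.of fun i j : Fin 6 => QuadraticMap.polar (⇑(formC 6 tableTwentyTwo))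
        (Pi.single i 1) (Pi.single j 1)) = Matrix.diagonal fun _ => (2 : ZMod 3) := by
      ext i j
      rw [Matrix.of_apply, hs, Matrix.diagonal_apply, Pi.single_apply]
      by_cases h : i = j
      · subst h; simp
      · simp [h, Ne.symm h]
    rw [Cfsg.polarGramDet, hm, Matrix.det_diagonal]
    simp only [Finset.prod_const, Finset.card_univ, Fintype.card_fin]
    decide

/-- in a non-split double cover of a simple non-abelian group a normal non-central subgroup is everything -/
theorem normal_eq_top_of_double_cover {A K : Type*} [Group A] [Finite A] [Group K] [IsSimpleGroup K]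
    (h : Cfsg.IsNonsplitDoubleCover A K) (N : Subgroup A) [N.Normal] (hN : ¬ N ≤ Subgroup.center A) :
    N = ⊤ := by
  obtain ⟨hc, ⟨q⟩, hsplit⟩ := h
  haveI : Nontrivial (A ⧸ Subgroup.center A) := q.toEquiv.nontrivial
  haveI : IsSimpleGroup (A ⧸ Subgroup.center A) :=
    IsSimpleGroup.isSimpleGroup_of_surjective q.symm.toMonoidHom q.symm.surjective
  have hsup : N ⊔ Subgroup.center A = ⊤ := by
    rcases ((inferInstance : N.Normal).map (QuotientGroup.mk' (Subgroup.center A))
      (QuotientGroup.mk'_surjective _)).eq_bot_or_eq_top with h | h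
    · rw [Subgroup.map_eq_bot_iff, QuotientGroup.ker_mk'] at h
      exact absurd h hN
    · have := congrArg (Subgroup.comap (QuotientGroup.mk' (Subgroup.center A))) h
      rw [Subgroup.comap_map_eq, QuotientGroup.ker_mk', Subgroup.comap_top] at this
      exact this
  by_contra hne
  haveI : Fact (Nat.Prime 2) := ⟨Nat.prime_two⟩
  have hinf : N ⊓ Subgroup.center A = ⊥ := by
    refine (Subgroup.eq_bot_iff_forall _).2 fun x hx => ?_
    by_contra hx1
    apply hne
    rw [eq_top_iff, ← hsup]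
    refine sup_le le_rfl fun y hy => ?_
    have hgen := zpowers_eq_top_of_prime_card (G := Subgroup.center A) (p := 2) hc
      (g := ⟨x, (Subgroup.mem_inf.1 hx).2⟩) (fun e => hx1 (congrArg Subtype.val e))
    obtain ⟨k, hk⟩ := Subgroup.mem_zpowers_iff.1 (hgen ▸ Subgroup.mem_top (⟨y, hy⟩ : Subgroup.center A))
    have := congrArg Subtype.val hk
    simp only [SubgroupClass.coe_zpow] at this
    rw [← this]
    exact N.zpow_mem (Subgroup.mem_inf.1 hx).1 k
  refine hsplit N ?_
  have hdis : Disjoint (Subgroup.center A) N := by rw [disjoint_iff, inf_comm, hinf]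
  refine Subgroup.isComplement'_of_disjoint_and_mul_eq_univ hdis ?_
  rw [← Subgroup.normal_mul, sup_comm, hsup]
  rfl

theorem nb_closure22 :
    Subgroup.closure {y : Cfsg.Spor.Fi22 | y ∈ conjugatesOf ga ∧ y ≠ ga ∧ Commute ga y} = H := by
  haveI := Fi22.finite
  set S := {y : Cfsg.Spor.Fi22 | y ∈ conjugatesOf ga ∧ y ≠ ga ∧ Commute ga y}
  have hle : Subgroup.closure S ≤ H := by
    rw [← Fi22.Transp.centralizer_eq, Subgroup.closure_le]
    exact fun y hy => Subgroup.mem_centralizer_singleton_iff.2 hy.2.2.eq.symm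
  refine le_antisymm hle ?_
  obtain ⟨c, hc⟩ : ∃ q : Fin Fi22.Perm.data.n, q ≠ i₀ ∧ cls22.π (cls22.tp cls22.i₀) q = q := by
    refine ⟨⟨tableTwentyTwo.pts.getD 0 0, by decide +kernel⟩, fun h => ?_, Fin.ext ?_⟩
    · exact absurd (congrArg Fin.val h) (by decide +kernel)
    · rw [cls22.tp_base]
      show ((π (gen .a) _ : Fin _) : ℕ) = _
      rw [π_gen]
      decide +kernel
  have hmem : cls22.tp c ∈ S := by
    have := (cls22.nb_eq cls22.i₀).symm.le ⟨c, hc, rfl⟩
    rw [cls22.tp_base] at this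
    exact this
  haveI hn : ((Subgroup.closure S).subgroupOf H).Normal := by
    refine ⟨fun x hx g => ?_⟩
    rw [Subgroup.mem_subgroupOf] at hx ⊢
    have hg : (g : Cfsg.Spor.Fi22) * ga * (g : Cfsg.Spor.Fi22)⁻¹ = ga := by
      have h := Subgroup.mem_centralizer_singleton_iff.1 (Fi22.Transp.H_le_centralizer g.2)
      rw [h, mul_inv_cancel_right]
    show (g : Cfsg.Spor.Fi22) * x * (g : Cfsg.Spor.Fi22)⁻¹ ∈ Subgroup.closure S
    revert hx
    generalize (x : Cfsg.Spor.Fi22) = x'
    intro hx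
    induction hx using Subgroup.closure_induction with
    | mem y hy =>
      refine Subgroup.subset_closure ⟨?_, fun e => hy.2.1 ?_, ?_⟩
      · obtain ⟨u, rfl⟩ := Fi22.Transp.mem_class.1 hy.1
        exact Fi22.Transp.mem_class.2 ⟨g * u, by group⟩
      · exact mul_left_cancel (mul_right_cancel (e.trans hg.symm))
      · have := hy.2.2.map (MulAut.conj (g : Cfsg.Spor.Fi22)).toMonoidHom
        simpa [hg] using this
    | one => simp
    | mul a b _ _ ha hb => rw [show (g : Cfsg.Spor.Fi22) * (a * b) * (g : Cfsg.Spor.Fi22)⁻¹ =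
        ((g : Cfsg.Spor.Fi22) * a * (g : Cfsg.Spor.Fi22)⁻¹) *
          ((g : Cfsg.Spor.Fi22) * b * (g : Cfsg.Spor.Fi22)⁻¹) by group]; exact mul_mem ha hb
    | inv a _ ha => rw [show (g : Cfsg.Spor.Fi22) * a⁻¹ * (g : Cfsg.Spor.Fi22)⁻¹ =
        ((g : Cfsg.Spor.Fi22) * a * (g : Cfsg.Spor.Fi22)⁻¹)⁻¹ by group]; exact inv_mem ha
  have q := Fi22.U62.isNonsplitDoubleCover
  haveI : IsSimpleGroup (Cfsg.PSU 6 Spor.QField 2) := Fi22.U62.psu_simple
  have htop := normal_eq_top_of_double_cover q ((Subgroup.closure S).subgroupOf H) fun h => by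
    have hz : (⟨cls22.tp c, hle (Subgroup.subset_closure hmem)⟩ : H) ∈ Subgroup.center H :=
      h (Subgroup.mem_subgroupOf.2 (Subgroup.subset_closure hmem))
    have hga : (⟨ga, Fi22.Transp.centralizer_eq ▸ Subgroup.mem_centralizer_singleton_iff.2 rfl⟩ : H) ∈
        Subgroup.center H := Subgroup.mem_center_iff.2 fun w => Subtype.ext
      (Subgroup.mem_centralizer_singleton_iff.1 (Fi22.Transp.H_le_centralizer w.2))
    haveI : Fact (Nat.Prime 2) := ⟨Nat.prime_two⟩
    have h1 := zpowers_eq_top_of_prime_card (G := Subgroup.center H) (p := 2) q.1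
      (g := ⟨_, hga⟩) (fun e => Fi22.Transp.ga_ne_one (by
        simpa using congrArg (fun t : Subgroup.center H => ((t : H) : Cfsg.Spor.Fi22)) e))
    have h2 : (⟨_, hz⟩ : Subgroup.center H) ∈ Subgroup.zpowers ⟨_, hga⟩ := h1 ▸ Subgroup.mem_top _
    obtain ⟨k, hk⟩ := Subgroup.mem_zpowers_iff.1 h2
    have hk' : ga ^ k = cls22.tp c := by
      have := congrArg (fun t : Subgroup.center H => ((t : H) : Cfsg.Spor.Fi22)) hk
      simpa using this
    rcases Int.even_or_odd k with ⟨j, rfl⟩ | ⟨j, rfl⟩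
    · rw [zpow_add, ← (Commute.refl ga).mul_zpow, Fi22.Transp.ga_sq, one_zpow] at hk'
      have := Fi22.Transp.orderOf_mem hmem.1
      rw [← hk', orderOf_one] at this
      omega
    · rw [zpow_add, zpow_one, zpow_mul, zpow_two, Fi22.Transp.ga_sq, one_zpow, one_mul] at hk'
      exact hmem.2.1 hk'.symm
  exact Subgroup.subgroupOf_eq_top.1 htop

theorem norm22_ne : ((tableTwentyTwo.norm : ℕ) : ZMod 3) ≠ 0 := by decide

theorem typeM22 : Cfsg.IsOfTypeM22 Cfsg.Spor.Fi22 (conjugatesOf ga) ∧
    Cfsg.IsPrimitiveUnderConj (conjugatesOf ga) := by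
  haveI := Fi22.finite
  haveI : Fact (Nat.Prime 3) := ⟨Nat.prime_three⟩
  haveI := Fi22.isFi22.1
  obtain ⟨hprim, hz⟩ := primitive_of_simple Fi22.Transp.isThreeTranspositionClass
    ⟨gen .a, gen .b, fun h => absurd (Fi22.π_injective.eq_iff.2 h) fun e => by
      have e' := congrArg (fun σ : Equiv.Perm _ => ((σ i₀ : Fin _) : ℕ)) e
      simp only [map_mul, Equiv.Perm.mul_apply, π_gen] at e'
      exact absurd e' (by decide +kernel)⟩
  refine ⟨⟨hz, ga, mem_conjugatesOf_self, ?_⟩, hprim⟩
  obtain ⟨c, hc, hdc, ⟨e⟩⟩ := table_sound 6 tableTwentyTwo cls22 rfl app22 zimg22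
    (fun i => π_gen .a i) word22 rfl (Or.inr rfl) okPts22 okOps22 okScan22 okApart22 okSteps22 okVecs22
  refine ⟨c, hc, hdc, ?_, ((tableTwentyTwo.norm : ℕ) : ZMod 3), norm22_ne, formC 6 tableTwentyTwo,
    form22_nondeg.1, form22_nondeg.2, ⟨e⟩⟩
  obtain ⟨u⟩ := Fi22.U62.isNonsplitDoubleCover.2.1
  exact ⟨Spor.QField, inferInstance, inferInstance, by decide,
    ⟨(centerQuotCongr (MulEquiv.subgroupCongr nb_closure22)).trans u⟩⟩

end CfsgLib.Spor.FischerTypes
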