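import Cfsg.Agent.Lib.Spor.FischerTypes.M24

/-!
Primitive groups of types M(22), M(23), M(24) exist, given the coset enumeration facts for `Fi24`.
-/

set_option autoImplicit false

namespace CfsgLib.Spor.FischerTypes

theorem finite24 (F : CosetFacts) : Finite Cfsg.Spor.Fi24 := by
  obtain ⟨-, -, hcard, -⟩ := exists_quot24 F
  exact Nat.finite_of_card_ne_zero (by
    rw [← Subgroup.card_mul_index Fi24.H, hcard, F.index_H]; norm_num)

theorem types_exist (F : CosetFacts) :
    (∃ (X : Type) (_ : Group X) (_ : Finite X) (E : Set X), Cfsg.IsThreeTranspositionClass E ∧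
      Cfsg.IsPrimitiveUnderConj E ∧ Cfsg.IsOfTypeM22 X E) ∧
    (∃ (X : Type) (_ : Group X) (_ : Finite X) (E : Set X), Cfsg.IsThreeTranspositionClass E ∧
      Cfsg.IsPrimitiveUnderConj E ∧ Cfsg.IsOfTypeM23 X E) ∧
    (∃ (X : Type) (_ : Group X) (_ : Finite X) (E : Set X), Cfsg.IsThreeTranspositionClass E ∧
      Cfsg.IsPrimitiveUnderConj E ∧ Cfsg.IsOfTypeM24 X E) :=
  ⟨⟨Cfsg.Spor.Fi22, inferInstance, Fi22.finite, conjugatesOf Fi22.Transp.ga,
      Fi22.Transp.isThreeTranspositionClass, typeM22.2, typeM22.1⟩,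
    ⟨Cfsg.Spor.Fi23, inferInstance, Fi23.finite, conjugatesOf Fi23.z,
      Fi23.three_transposition, typeM23.2, typeM23.1⟩,
    ⟨Cfsg.Spor.Fi24, inferInstance, finite24 F, _, three_transposition24 F, primitive24 F, typeM24 F⟩⟩

end CfsgLib.Spor.FischerTypes
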