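import Cfsg.Agent.Lib.Spor.FischerTypes.Points
import Cfsg.Agent.Lib.PresCert.Tree

/-!
Checks of a table: the points fixed by two transpositions, the action of some of their transpositions,
and a matching set of vectors over the field with three elements.
-/

set_option autoImplicit false
set_option maxRecDepth 100000

namespace CfsgLib.Spor.FischerTypes

open CfsgLib.PresCert

/-- the data of a table -/
structure TableData where
  pc : ℕ
  pcWord : List ℕ
  pts : List ℕ
  ptWords : List (List ℕ)
  gens : List ℕ
  ops : List (List ℕ)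
  steps : List (ℕ × ℕ × ℕ)
  codes : List ℕ
  weights : List ℕ
  norm : ℕ

theorem beq_iff {a b : ℕ} : Nat.beq a b = true ↔ a = b :=
  ⟨Nat.eq_of_beq_eq_true, fun h => h ▸ Nat.beq_refl a⟩

namespace TableData

variable (L : TableData)

/-- the image of a point under the transposition of the point reached by a word -/
noncomputable def moved (app : List ℕ → ℕ → ℕ) (zimg : ℕ → ℕ) (w : List ℕ) (i : ℕ) : ℕ :=
  app w (zimg (app w.reverse i))

/-- an entry of the operation -/
def opAt (a i : ℕ) : ℕ := (L.ops.getD a []).getD i 0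

/-- increasing -/
def increasing : List ℕ → Bool
  | [] => true
  | [_] => true
  | x :: y :: l => Nat.blt x y && increasing (y :: l)

/-- the points are valid -/
noncomputable def okPts (g n : ℕ) (app : List ℕ → ℕ → ℕ) : Bool :=
  Nat.beq L.pts.length L.ptWords.length && increasing L.pts && (L.pcWord.all fun k => Nat.blt k g) &&
    Nat.beq (app L.pcWord 0) L.pc && Nat.blt L.pc n &&
    (L.gens.all fun t => Nat.blt t L.pts.length) &&
    ((List.range L.pts.length).all fun i => ((L.ptWords.getD i []).all fun k => Nat.blt k g) &&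
      Nat.beq (app (L.ptWords.getD i []) 0) (L.pts.getD i 0) && Nat.blt (L.pts.getD i 0) n)

/-- the operations are those of the transpositions -/
noncomputable def okOps (app : List ℕ → ℕ → ℕ) (zimg : ℕ → ℕ) : Bool :=
  (List.range L.gens.length).all fun a => (List.range L.pts.length).all fun i =>
    Nat.blt (L.opAt a i) L.pts.length &&
      Nat.beq (moved app zimg (L.ptWords.getD (L.gens.getD a 0) []) (L.pts.getD i 0))
        (L.pts.getD (L.opAt a i) 0)

/-- fixed by both transpositions and different from their points -/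
noncomputable def common (app : List ℕ → ℕ → ℕ) (zimg : ℕ → ℕ) (q : ℕ) : Bool :=
  Nat.beq (zimg q) q && !Nat.beq q 0 && !Nat.beq q L.pc && Nat.beq (moved app zimg L.pcWord q) q

/-- the points are all those fixed by both transpositions -/
noncomputable def okScan (n : ℕ) (app : List ℕ → ℕ → ℕ) (zimg : ℕ → ℕ) : Bool :=
  (L.pts.all fun q => L.common app zimg q) &&
    allBelow n fun q => bif L.common app zimg q then L.pts.any fun x => Nat.beq x q else true

/-- the transpositions do not commute -/
noncomputable def okApart (app : List ℕ → ℕ → ℕ) (zimg : ℕ → ℕ) : Bool :=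
  !Nat.beq (moved app zimg L.pcWord 0) 0

/-- the steps reach every index -/
def okSteps : List ℕ → List (ℕ × ℕ × ℕ) → Bool
  | known, [] => (List.range L.pts.length).all fun i => known.any fun k => Nat.beq k i
  | known, (p, a, q) :: l =>
    (known.any fun k => Nat.beq k q) && Nat.blt a L.gens.length && Nat.beq (L.opAt a q) p &&
      okSteps (p :: known) l

/-- digit of a code -/
def dig (x k : ℕ) : ℕ := x / 3 ^ k % 3

/-- the form on codes -/
def qN (x : ℕ) : ℕ :=
  ((List.range L.weights.length).map fun k => L.weights.getD k 0 * (dig x k * dig x k)).sum % 3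

/-- the polar form on codes -/
def bN (x y : ℕ) : ℕ :=
  2 * ((List.range L.weights.length).map fun k => L.weights.getD k 0 * (dig x k * dig y k)).sum % 3

/-- the code of a digit sequence -/
def encode : ℕ → (ℕ → ℕ) → ℕ
  | 0, _ => 0
  | N + 1, f => f 0 + 3 * encode N fun k => f (k + 1)

/-- the code of the opposite vector -/
def negC (x : ℕ) : ℕ := encode L.weights.length fun k => 2 * dig x k % 3

/-- the code of the image of `x` under the reflection of `y` -/
def reflC (x y : ℕ) : ℕ :=
  encode L.weights.length fun k => (dig x k + 2 * (L.norm * L.bN x y) * dig y k) % 3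

/-- the vectors -/
noncomputable def okVecs : Bool :=
  Nat.beq L.codes.length L.pts.length &&
    ((List.range L.pts.length).all fun i => Nat.blt (L.codes.getD i 0) (3 ^ L.weights.length) &&
      Nat.beq (L.qN (L.codes.getD i 0)) L.norm &&
      (List.range L.pts.length).all fun j =>
        (!Nat.beq (L.codes.getD j 0) (L.codes.getD i 0) && !Nat.beq (L.codes.getD j 0) (L.negC (L.codes.getD i 0)))
          || Nat.beq i j) &&
    ((List.range L.gens.length).all fun a => (List.range L.pts.length).all fun i =>
      Nat.beq (L.reflC (L.codes.getD i 0) (L.codes.getD (L.gens.getD a 0) 0)) (L.codes.getD (L.opAt a i) 0) ||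
        Nat.beq (L.reflC (L.codes.getD i 0) (L.codes.getD (L.gens.getD a 0) 0))
          (L.negC (L.codes.getD (L.opAt a i) 0))) &&
    allBelow (3 ^ L.weights.length) fun x =>
      bif Nat.beq (L.qN x) L.norm then L.codes.any fun y => Nat.beq y x || Nat.beq (L.negC y) x else true

end TableData

section Sound

variable (N : ℕ) (L : TableData)

/-- a vector from its code -/
def vecC (x : ℕ) : Fin N → ZMod 3 := fun k => (TableData.dig x k : ZMod 3)

/-- the form of the table -/
noncomputable def formC : QuadraticForm (ZMod 3) (Fin N → ZMod 3) :=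
  QuadraticMap.weightedSumSquares (ZMod 3) fun k : Fin N => (L.weights.getD k 0 : ZMod 3)

theorem formC_apply (u : Fin N → ZMod 3) :
    formC N L u = ∑ k : Fin N, (L.weights.getD k 0 : ZMod 3) * (u k * u k) := by
  simp [formC, QuadraticMap.weightedSumSquares_apply]

theorem polar_formC (u v : Fin N → ZMod 3) :
    QuadraticMap.polar (formC N L) u v = 2 * ∑ k : Fin N, (L.weights.getD k 0 : ZMod 3) * (u k * v k) := by
  rw [QuadraticMap.polar, formC_apply, formC_apply, formC_apply, Finset.mul_sum, ← Finset.sum_sub_distrib,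
    ← Finset.sum_sub_distrib]
  refine Finset.sum_congr rfl fun k _ => ?_
  simp only [Pi.add_apply]
  ring

theorem cast_mod3 (x : ℕ) : ((x % 3 : ℕ) : ZMod 3) = (x : ZMod 3) := ZMod.natCast_mod x 3

theorem cast_list_sum (f : ℕ → ℕ) : ((((List.range N).map f).sum : ℕ) : ZMod 3) = ∑ k : Fin N, (f k : ZMod 3) := by
  rw [show ((List.range N).map f).sum = ∑ k ∈ Finset.range N, f k by
    simp [Finset.sum_eq_multiset_sum, Finset.range, Multiset.range], Nat.cast_sum,
    Finset.sum_range (fun k => (f k : ZMod 3))]

theorem qN_cast (hN : L.weights.length = N) (x : ℕ) : (L.qN x : ZMod 3) = formC N L (vecC N x) := by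
  rw [TableData.qN, cast_mod3, hN, cast_list_sum, formC_apply]
  simp [vecC]

theorem bN_cast (hN : L.weights.length = N) (x y : ℕ) :
    (L.bN x y : ZMod 3) = QuadraticMap.polar (formC N L) (vecC N x) (vecC N y) := by
  rw [TableData.bN, cast_mod3, hN, Nat.cast_mul, cast_list_sum, polar_formC]
  simp [vecC]

theorem dig_encode : ∀ (M : ℕ) (f : ℕ → ℕ), (∀ k, f k < 3) → ∀ k < M, TableData.dig (TableData.encode M f) k = f k
  | 0, _, _, k, h => absurd h (Nat.not_lt_zero k)
  | M + 1, f, hf, 0, _ => by
    simp only [TableData.dig, TableData.encode, pow_zero, Nat.div_one]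
    have := hf 0
    omega
  | M + 1, f, hf, k + 1, h => by
    have ih := dig_encode M (fun j => f (j + 1)) (fun j => hf _) k (by omega)
    simp only [TableData.dig, TableData.encode] at ih ⊢
    have := hf 0
    rw [pow_succ', ← Nat.div_div_eq_div_mul,
      show (f 0 + 3 * TableData.encode M fun j => f (j + 1)) / 3 = TableData.encode M fun j => f (j + 1) by omega]
    exact ih

theorem vecC_negC (hN : L.weights.length = N) (x : ℕ) : vecC N (L.negC x) = -vecC N x := by
  funext k
  show (TableData.dig (L.negC x) k : ZMod 3) = -(TableData.dig x k : ZMod 3)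
  rw [TableData.negC, hN, dig_encode N _ (fun _ => Nat.mod_lt _ (by norm_num)) k k.2, cast_mod3, Nat.cast_mul,
    show ((2 : ℕ) : ZMod 3) = -1 by decide, neg_one_mul]

theorem vecC_reflC (hN : L.weights.length = N) (hnorm : L.norm = 1 ∨ L.norm = 2) (x y : ℕ) :
    vecC N (L.reflC x y) = vecC N x - ((L.norm : ZMod 3)⁻¹ *
      QuadraticMap.polar (formC N L) (vecC N x) (vecC N y)) • vecC N y := by
  funext k
  show (TableData.dig (L.reflC x y) k : ZMod 3) = _
  rw [TableData.reflC, hN, dig_encode N _ (fun _ => Nat.mod_lt _ (by norm_num)) k k.2, cast_mod3]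
  push_cast
  rw [bN_cast N L hN, show (2 : ZMod 3) = -1 by decide,
    show (L.norm : ZMod 3)⁻¹ = L.norm by rcases hnorm with e | e <;> rw [e] <;> exact inv_eq_of_mul_eq_one_right (by decide)]
  simp only [Pi.sub_apply, Pi.smul_apply, smul_eq_mul, vecC]
  ring

theorem exists_code : ∀ (M : ℕ) (u : ℕ → ℕ), (∀ k, u k < 3) → TableData.encode M u < 3 ^ M
  | 0, _, _ => by simp [TableData.encode]
  | M + 1, u, hu => by
    have := exists_code M (fun k => u (k + 1)) (fun k => hu _)
    have := hu 0
    simp only [TableData.encode, pow_succ']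
    omega

theorem dig_inj : ∀ (M x y : ℕ), x < 3 ^ M → y < 3 ^ M →
    (∀ k < M, TableData.dig x k = TableData.dig y k) → x = y
  | 0, x, y, hx, hy, _ => by simp only [pow_zero] at hx hy; omega
  | M + 1, x, y, hx, hy, hd => by
    have e0 := hd 0 (by omega)
    simp only [TableData.dig, pow_zero, Nat.div_one] at e0
    rw [pow_succ'] at hx hy
    have := dig_inj M (x / 3) (y / 3) (by omega) (by omega) fun k hk => by
      have := hd (k + 1) (by omega)
      simp only [TableData.dig, pow_succ', ← Nat.div_div_eq_div_mul] at this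
      exact this
    omega

theorem vecC_inj (x y : ℕ) (hx : x < 3 ^ N) (hy : y < 3 ^ N) (e : vecC N x = vecC N y) : x = y :=
  dig_inj N x y hx hy fun k hk => by
    have e' : (TableData.dig x k : ZMod 3) = (TableData.dig y k : ZMod 3) := congrFun e ⟨k, hk⟩
    rw [ZMod.natCast_eq_natCast_iff'] at e'
    simpa [TableData.dig] using e'

variable [Fact (Nat.Prime 3)]

/-- the common fixed points of two transpositions generate a projective reflection group -/
theorem table_sound {G : Type*} [Group G] {n g : ℕ} (P : PointClass G n) (h0 : (P.i₀ : ℕ) = 0)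
    (app : List ℕ → ℕ → ℕ) (zimg : ℕ → ℕ)
    (hz : ∀ i : Fin n, ((P.π P.z i : Fin n) : ℕ) = zimg i)
    (hw : ∀ u : List ℕ, (∀ k ∈ u, k < g) → ∃ x : G, (∀ i : Fin n, ((P.π x i : Fin n) : ℕ) = app u i) ∧
      ∀ i : Fin n, ((P.π x⁻¹ i : Fin n) : ℕ) = app u.reverse i)
    (hN : L.weights.length = N) (hnorm : L.norm = 1 ∨ L.norm = 2)
    (h1 : L.okPts g n app = true) (h2 : L.okOps app zimg = true) (h3 : L.okScan n app zimg = true)
    (h4 : L.okApart app zimg = true) (h5 : L.okSteps L.gens L.steps = true) (h6 : L.okVecs = true) :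
    ∃ c ∈ conjugatesOf P.z, ¬ Commute P.z c ∧
      Nonempty (↥(Subgroup.closure ({y : G | y ∈ conjugatesOf P.z ∧ y ≠ P.z ∧ Commute P.z y} ∩
          {y : G | y ∈ conjugatesOf P.z ∧ y ≠ c ∧ Commute c y})) ⧸
        Subgroup.center ↥(Subgroup.closure ({y : G | y ∈ conjugatesOf P.z ∧ y ≠ P.z ∧ Commute P.z y} ∩
          {y : G | y ∈ conjugatesOf P.z ∧ y ≠ c ∧ Commute c y})) ≃*
        ↥(Cfsg.reflectionSubgroup (⇑(formC N L)) (L.norm : ZMod 3)) ⧸
          Subgroup.center ↥(Cfsg.reflectionSubgroup (⇑(formC N L)) (L.norm : ZMod 3))) := by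
  simp only [TableData.okPts, Bool.and_eq_true, List.all_eq_true, beq_iff, Nat.blt_eq,
    List.mem_range] at h1
  obtain ⟨⟨⟨⟨⟨⟨-, hinc⟩, hpcw⟩, hpc⟩, hpclt⟩, hgens⟩, hpts⟩ := h1
  set m := L.pts.length with hm
  have happ : ∀ (u : List ℕ), (∀ k ∈ u, k < g) → ∀ p : Fin n, app u 0 = p →
      ∀ i : Fin n, ((P.π (P.tp p) i : Fin n) : ℕ) = TableData.moved app zimg u i := by
    intro u hu p hp i
    obtain ⟨x, hx, hx'⟩ := hw u hu
    have hxp : P.π x P.i₀ = p := Fin.ext (by rw [hx, h0, hp])
    rw [P.tp_of_eq hxp, map_mul, map_mul, Equiv.Perm.mul_apply, Equiv.Perm.mul_apply, TableData.moved, hx, hz, hx']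
  let pc : Fin n := ⟨L.pc, hpclt⟩
  have hmc := happ _ hpcw pc hpc
  let S : Fin m → Fin n := fun i => ⟨L.pts.getD i 0, (hpts i i.2).2⟩
  have hSinj : Function.Injective S := by
    have hpw : ∀ l : List ℕ, TableData.increasing l = true → l.Pairwise (· < ·) := by
      intro l
      induction l with
      | nil => simp
      | cons x l ih =>
        cases l with
        | nil => simp
        | cons y l =>
          intro h
          simp only [TableData.increasing, Bool.and_eq_true, Nat.blt_eq] at h
          have := ih h.2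
          refine List.pairwise_cons.2 ⟨fun a ha => ?_, this⟩
          rcases List.mem_cons.1 ha with rfl | ha
          · exact h.1
          · exact h.1.trans ((List.pairwise_cons.1 this).1 a ha)
    intro i j e
    have e' := congrArg Fin.val e
    simp only [S, List.getD_eq_getElem?_getD, List.getElem?_eq_getElem i.2,
      List.getElem?_eq_getElem j.2, Option.getD_some] at e'
    exact Fin.ext ((List.Nodup.getElem_inj_iff ((hpw _ hinc).imp fun h => Nat.ne_of_lt h)).1 e')
  simp only [TableData.okOps, Bool.and_eq_true, List.all_eq_true, beq_iff, Nat.blt_eq,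
    List.mem_range] at h2
  let opF : ℕ → Fin m → Fin m := fun a i => if h : L.opAt a i < m then ⟨L.opAt a i, h⟩ else i
  let T : Set (Fin m) := {t | ∃ a < L.gens.length, L.gens.getD a 0 = (t : ℕ)}
  classical
  let op : Fin m → Fin m → Fin m := fun t i =>
    if h : ∃ a < L.gens.length, L.gens.getD a 0 = (t : ℕ) then opF (Nat.find h) i else i
  let f : Fin m → G := fun i => P.tp (S i)
  have hfinj : Function.Injective f := P.tp_injective.comp hSinj
  have hopF : ∀ a < L.gens.length, ∀ i : Fin m, (opF a i : ℕ) = L.opAt a i := fun a ha i => by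
    simp only [opF]
    rw [dif_pos (show L.opAt a i < m from (h2 a ha i i.2).1)]
  have hcol : ∀ a < L.gens.length, ∀ t : Fin m, L.gens.getD a 0 = (t : ℕ) → ∀ i, f t * f i * (f t)⁻¹ = f (opF a i) := by
    intro a ha t ht i
    rw [P.conj_tp]
    refine congrArg P.tp (Fin.ext ?_)
    obtain ⟨hlt, he⟩ := h2 a ha i i.2
    rw [happ (L.ptWords.getD t []) (hpts t t.2).1.1 _ (hpts t t.2).1.2, ← ht]
    show TableData.moved app zimg _ (L.pts.getD i 0) = L.pts.getD (opF a i : Fin m) 0
    rw [he]
    rw [hopF a ha i]
  have hop : ∀ t ∈ T, ∀ i, f t * f i * (f t)⁻¹ = f (op t i) := by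
    intro t ht i
    simp only [op, dif_pos (show ∃ a < L.gens.length, L.gens.getD a 0 = (t : ℕ) from ht)]
    exact hcol _ (Nat.find_spec (show ∃ a < L.gens.length, L.gens.getD a 0 = (t : ℕ) from ht)).1 t
      (Nat.find_spec (show ∃ a < L.gens.length, L.gens.getD a 0 = (t : ℕ) from ht)).2 i
  have hgmem : ∀ a < L.gens.length, L.gens.getD a 0 < m := fun a ha => hgens _ (by
    rw [List.getD_eq_getElem?_getD, List.getElem?_eq_getElem ha]; exact List.getElem_mem ha)
  have hreach : Reaches T op := by
    intro Pr hT hstep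
    have key : ∀ (st : List (ℕ × ℕ × ℕ)) (known : List ℕ),
        (∀ i : Fin m, (i : ℕ) ∈ known → Pr i) → (∀ k ∈ known, k < m) → L.okSteps known st = true → ∀ i, Pr i := by
      intro st
      induction st with
      | nil =>
        intro known hk _ h i
        simp only [TableData.okSteps, List.all_eq_true, List.any_eq_true, List.mem_range,
          beq_iff] at h
        obtain ⟨k, hkm, rfl⟩ := h i i.2
        exact hk i hkm
      | cons x st ih =>
        intro known hk hlt h
        obtain ⟨p, a, q⟩ := x
        simp only [TableData.okSteps, Bool.and_eq_true, List.any_eq_true, beq_iff, Nat.blt_eq] at h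
        obtain ⟨⟨⟨⟨k, hkm, rfl⟩, ha⟩, hp⟩, hrest⟩ := h
        let t : Fin m := ⟨L.gens.getD a 0, hgmem a ha⟩
        let qf : Fin m := ⟨k, hlt k hkm⟩
        have hplt : p < m := hp ▸ (h2 a ha k (hlt k hkm)).1
        refine ih (p :: known) (fun i hi => ?_) (fun j hj => ?_) hrest
        · rcases List.mem_cons.1 hi with hi | hi
          · have e : i = op t qf := hfinj (by
              rw [← hop t ⟨a, ha, rfl⟩ qf, hcol a ha t rfl qf]
              refine congrArg f (Fin.ext ?_)
              rw [hopF a ha qf, hi]
              exact hp.symm)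
            rw [e]
            exact hstep t ⟨a, ha, rfl⟩ qf (hk qf hkm)
          · exact hk i hi
        · rcases List.mem_cons.1 hj with rfl | hj
          · exact hplt
          · exact hlt j hj
    refine key L.steps L.gens (fun i hi => hT i ?_) hgens h5
    obtain ⟨a, ha, e⟩ := List.mem_iff_getElem.1 hi
    exact ⟨a, ha, by rw [List.getD_eq_getElem?_getD, List.getElem?_eq_getElem ha]; exact e⟩
  -- the vectors
  simp only [TableData.okVecs, Bool.and_eq_true, List.all_eq_true, Bool.or_eq_true, Bool.not_eq_true',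
    beq_iff, Nat.blt_eq, List.mem_range] at h6
  obtain ⟨⟨⟨hlen, hvec⟩, hrefl⟩, hall⟩ := h6
  let v : Fin m → Fin N → ZMod 3 := fun i => vecC N (L.codes.getD i 0)
  have hn0 : (L.norm : ZMod 3) ≠ 0 := fun h => by
    have h' : (L.norm : ZMod 3) = ((0 : ℕ) : ZMod 3) := by rw [h, Nat.cast_zero]
    rw [ZMod.natCast_eq_natCast_iff'] at h'
    omega
  have hvc := fun x y hx hy e => vecC_inj N x y hx hy e
  obtain ⟨f', hf'inj, hrange, hf'op⟩ := refl_table (formC N L) hn0 v
    (fun i => by rw [← qN_cast N L hN, (hvec i i.2).1.2])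
    (fun i j hij => by
      obtain ⟨hvi, hij'⟩ := hvec i i.2
      have hj := (hvec j j.2).1.1
      rw [hN] at hj
      have hi := hvi.1
      rw [hN] at hi
      rcases (hij' j j.2) with ⟨hne, hne'⟩ | hm'
      · rcases hij with h | h
        · rw [hvc _ _ hj hi h, Nat.beq_refl] at hne
          exact Bool.noConfusion hne
        · rw [← vecC_negC N L hN] at h
          rw [hvc _ _ hj (by
            rw [TableData.negC, hN]
            exact exists_code N _ fun _ => Nat.mod_lt _ (by norm_num)) h, Nat.beq_refl] at hne'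
          exact Bool.noConfusion hne'
      · exact Fin.ext hm')
    (fun u hu => by
      let uk : ℕ → ℕ := fun k => if h : k < N then (u ⟨k, h⟩).val else 0
      have huk : ∀ k, uk k < 3 := fun k => by
        simp only [uk]
        split_ifs
        · exact (u _).isLt
        · omega
      set x := TableData.encode N uk with hx
      have hux : vecC N x = u := by
        funext k
        show (TableData.dig x k : ZMod 3) = u k
        rw [hx, dig_encode N uk huk k k.2]
        simp only [uk, dif_pos k.2, Fin.eta]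
        exact ZMod.natCast_zmod_val (u k)
      have hlt : x < 3 ^ L.weights.length := hN ▸ exists_code N uk huk
      have h := allBelow_spec hall x hlt
      have hq : Nat.beq (L.qN x) L.norm = true := by
        have e : (L.qN x : ZMod 3) = (L.norm : ZMod 3) := by rw [qN_cast N L hN, hux, hu]
        rw [ZMod.natCast_eq_natCast_iff'] at e
        have hlt3 : L.qN x < 3 := Nat.mod_lt _ (by norm_num)
        rw [beq_iff]
        rcases hnorm with e2 | e2 <;> rw [e2] at e ⊢ <;> omega
      rw [hq, cond_true, List.any_eq_true] at h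
      obtain ⟨y, hy, hy'⟩ := h
      obtain ⟨k, hk, rfl⟩ := List.mem_iff_getElem.1 hy
      refine ⟨⟨k, by omega⟩, ?_⟩
      have e : L.codes.getD k 0 = L.codes[k] := by
        rw [List.getD_eq_getElem?_getD, List.getElem?_eq_getElem hk]; rfl
      simp only [Bool.or_eq_true, beq_iff] at hy'
      rw [← hux]
      simp only [v, e]
      rcases hy' with h' | h'
      · exact Or.inl (by rw [h'])
      · exact Or.inr (by rw [← h', vecC_negC N L hN]))
    T op (fun t ht i => by
      simp only [op, dif_pos (show ∃ a < L.gens.length, L.gens.getD a 0 = (t : ℕ) from ht)]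
      obtain ⟨ha, hat⟩ := Nat.find_spec (show ∃ a < L.gens.length, L.gens.getD a 0 = (t : ℕ) from ht)
      set a := Nat.find (show ∃ a < L.gens.length, L.gens.getD a 0 = (t : ℕ) from ht)
      have hr := hrefl a ha i i.2
      simp only [v, hopF a ha]
      rw [show formC N L (vecC N (L.codes.getD t 0)) = (L.norm : ZMod 3) by
        rw [← qN_cast N L hN, (hvec t t.2).1.2], ← hat, ← vecC_reflC N L hN hnorm]
      rcases hr with h | h
      · exact Or.inl (by rw [h])
      · exact Or.inr (by rw [h, vecC_negC N L hN]))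
  obtain ⟨e⟩ := quot_center_equiv f f' hfinj hf'inj T op hop hf'op hreach
  have hset : {y : G | y ∈ conjugatesOf P.z ∧ y ≠ P.z ∧ Commute P.z y} ∩
      {y : G | y ∈ conjugatesOf P.z ∧ y ≠ P.tp pc ∧ Commute (P.tp pc) y} = Set.range f := by
    conv_lhs => rw [← P.tp_base]
    rw [P.tp_base]
    have := P.nb_inter_eq P.i₀ pc
    rw [P.tp_base] at this
    rw [this]
    ext y
    constructor
    · rintro ⟨q, ⟨⟨hq0, hzq⟩, hqc, hcq⟩, rfl⟩
      rw [TableData.okScan, Bool.and_eq_true] at h3
      have h := allBelow_spec h3.2 q q.2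
      rw [TableData.common] at h
      have b1 : Nat.beq (zimg q) q = true := beq_iff.mpr (by rw [← hz, hzq])
      have b2 : Nat.beq (q : ℕ) 0 = false := Bool.eq_false_iff.2 fun h' =>
        hq0 (Fin.ext ((Nat.eq_of_beq_eq_true h').trans h0.symm))
      have b3 : Nat.beq (q : ℕ) L.pc = false := Bool.eq_false_iff.2 fun h' =>
        hqc (Fin.ext (Nat.eq_of_beq_eq_true h'))
      have b4 : Nat.beq (TableData.moved app zimg L.pcWord q) q = true :=
        beq_iff.mpr (by rw [← hmc, hcq])
      simp only [b1, b2, b3, b4, Bool.not_false, Bool.and_self, cond_true, List.any_eq_true,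
        beq_iff] at h
      obtain ⟨x, hx, hxq⟩ := h
      obtain ⟨k, hk, rfl⟩ := List.mem_iff_getElem.1 hx
      refine ⟨⟨k, hk⟩, congrArg P.tp (Fin.ext ?_)⟩
      show L.pts.getD k 0 = (q : ℕ)
      rw [List.getD_eq_getElem?_getD, List.getElem?_eq_getElem hk]
      exact hxq
    · rintro ⟨i, rfl⟩
      refine ⟨S i, ?_, rfl⟩
      rw [TableData.okScan, Bool.and_eq_true, List.all_eq_true] at h3
      have hb := h3.1 (S i : ℕ) (by
        show L.pts.getD (i : ℕ) 0 ∈ L.pts
        rw [List.getD_eq_getElem?_getD, List.getElem?_eq_getElem i.2]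
        exact List.getElem_mem i.2)
      rw [TableData.common] at hb
      simp only [Bool.and_eq_true, Bool.not_eq_true', beq_iff] at hb
      obtain ⟨⟨⟨a1, a2⟩, a3⟩, a4⟩ := hb
      refine ⟨⟨fun e => ?_, Fin.ext (by rw [hz, a1])⟩, fun e => ?_, Fin.ext (by rw [hmc, a4])⟩
      · rw [congrArg Fin.val e, h0] at a2
        exact Bool.noConfusion a2
      · rw [congrArg Fin.val e] at a3
        rw [show ((pc : Fin n) : ℕ) = L.pc from rfl, Nat.beq_refl] at a3
        exact Bool.noConfusion a3
  refine ⟨P.tp pc, P.range_tp ▸ ⟨pc, rfl⟩, fun hc => ?_, ⟨((centerQuotCongr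
    (MulEquiv.subgroupCongr (congrArg Subgroup.closure hset))).trans e).trans
      (centerQuotCongr (MulEquiv.subgroupCongr (congrArg Subgroup.closure hrange.symm)))⟩⟩
  have e1 : P.π (P.tp pc) P.i₀ = P.i₀ := (P.stab _).2 hc.eq.symm
  simp only [TableData.okApart, Bool.not_eq_true'] at h4
  have e2 := congrArg Fin.val e1
  rw [hmc, h0] at e2
  rw [e2] at h4
  exact Bool.noConfusion h4

end Sound

end CfsgLib.Spor.FischerTypes
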