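import Cfsg.Prelude.Def_FischerSpaces

/-!
Tools for the types of Fischer groups: a group generated by a set, modulo its centre, is determined by
the conjugation action of a few of the generators; transport of the types along isomorphisms.
-/

set_option autoImplicit false

namespace CfsgLib.Spor.FischerTypes

section Table

variable {G : Type*} [Group G] {ι : Type*}

/-- everything is reached from the set by the operations -/
def Reaches (T : Set ι) (op : ι → ι → ι) : Prop :=
  ∀ P : ι → Prop, (∀ t ∈ T, P t) → (∀ t ∈ T, ∀ i, P i → P (op t i)) → ∀ i, P i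

theorem closure_range_eq (f : ι → G) (T : Set ι) (op : ι → ι → ι)
    (h : ∀ t ∈ T, ∀ i, f t * f i * (f t)⁻¹ = f (op t i)) (hr : Reaches T op) :
    Subgroup.closure (Set.range f) = Subgroup.closure (f '' T) := by
  refine le_antisymm ((Subgroup.closure_le _).2 ?_) (Subgroup.closure_mono (Set.image_subset_range _ _))
  rintro _ ⟨i, rfl⟩
  refine hr (fun i => f i ∈ Subgroup.closure (f '' T)) (fun t ht => Subgroup.subset_closure ⟨t, ht, rfl⟩)
    (fun t ht j hj => ?_) i
  rw [← h t ht j]
  exact mul_mem (mul_mem (Subgroup.subset_closure ⟨t, ht, rfl⟩) hj)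
    (inv_mem (Subgroup.subset_closure ⟨t, ht, rfl⟩))

theorem exists_perm [Finite ι] (f : ι → G) (hf : Function.Injective f) (T : Set ι) (op : ι → ι → ι)
    (h : ∀ t ∈ T, ∀ i, f t * f i * (f t)⁻¹ = f (op t i)) (hr : Reaches T op) :
    ∃ ρ : ↥(Subgroup.closure (Set.range f)) →* Equiv.Perm ι,
      ρ.ker = Subgroup.center ↥(Subgroup.closure (Set.range f)) ∧
      ρ.range = Subgroup.closure {σ : Equiv.Perm ι | ∃ t ∈ T, ∀ i, σ i = op t i} := by
  classical
  have hbij : ∀ t ∈ T, Function.Bijective (op t) := fun t ht =>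
    Finite.injective_iff_bijective.1 fun a b e => hf (by
      have ha := h t ht a
      rw [e, ← h t ht b] at ha
      exact mul_left_cancel (mul_right_cancel ha))
  have hex : ∀ g : ↥(Subgroup.closure (Set.range f)), ∃ σ : Equiv.Perm ι, ∀ i,
      (g : G) * f i * (g : G)⁻¹ = f (σ i) := by
    suffices key : ∀ g : G, g ∈ Subgroup.closure (f '' T) → ∃ σ : Equiv.Perm ι, ∀ i, g * f i * g⁻¹ = f (σ i) from
      fun g => key g (closure_range_eq f T op h hr ▸ g.2)
    intro g hg
    induction hg using Subgroup.closure_induction with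
    | mem x hx =>
      obtain ⟨t, ht, rfl⟩ := hx
      exact ⟨Equiv.ofBijective _ (hbij t ht), fun i => h t ht i⟩
    | one => exact ⟨1, fun i => by simp⟩
    | mul x y _ _ hx hy =>
      obtain ⟨σ, hσ⟩ := hx
      obtain ⟨τ, hτ⟩ := hy
      refine ⟨σ * τ, fun i => ?_⟩
      rw [Equiv.Perm.mul_apply, ← hσ (τ i), ← hτ i]
      group
    | inv x _ hx =>
      obtain ⟨σ, hσ⟩ := hx
      refine ⟨σ⁻¹, fun i => ?_⟩
      have e := hσ (σ⁻¹ i)
      rw [show σ (σ⁻¹ i) = i from σ.apply_symm_apply i] at e
      rw [← e]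
      group
  choose p hp using hex
  let ρ : ↥(Subgroup.closure (Set.range f)) →* Equiv.Perm ι :=
    MonoidHom.mk' p fun a b => Equiv.ext fun i => hf (by
      rw [Equiv.Perm.mul_apply, ← hp, ← hp, ← hp, Subgroup.coe_mul]
      group)
  refine ⟨ρ, ?_, ?_⟩
  · ext g
    constructor
    · intro hg
      rw [Subgroup.mem_center_iff]
      intro y
      apply Subtype.ext
      rw [Subgroup.coe_mul, Subgroup.coe_mul]
      have hc : Subgroup.closure (Set.range f) ≤ Subgroup.centralizer ({(g : G)} : Set G) := by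
        rw [Subgroup.closure_le]
        rintro _ ⟨i, rfl⟩
        rw [SetLike.mem_coe, Subgroup.mem_centralizer_singleton_iff]
        have e := hp g i
        rw [show p g = 1 from hg, Equiv.Perm.one_apply, mul_inv_eq_iff_eq_mul] at e
        exact e.symm
      exact Subgroup.mem_centralizer_singleton_iff.1 (hc y.2)
    · intro hg
      refine Equiv.ext fun i => hf ?_
      show f (p g i) = f ((1 : Equiv.Perm ι) i)
      rw [Equiv.Perm.one_apply, ← hp]
      have e := congrArg Subtype.val
        (Subgroup.mem_center_iff.1 hg ⟨f i, Subgroup.subset_closure ⟨i, rfl⟩⟩)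
      rw [Subgroup.coe_mul, Subgroup.coe_mul] at e
      rw [← e, mul_inv_cancel_right]
  · have hgen : (⊤ : Subgroup ↥(Subgroup.closure (Set.range f))) =
        Subgroup.closure {x : ↥(Subgroup.closure (Set.range f)) | ∃ t ∈ T, (x : G) = f t} := by
      rw [eq_comm, eq_top_iff]
      rintro ⟨g, hg⟩ -
      have hg' : g ∈ Subgroup.closure (f '' T) := closure_range_eq f T op h hr ▸ hg
      suffices g ∈ (Subgroup.closure {x : ↥(Subgroup.closure (Set.range f)) | ∃ t ∈ T, (x : G) = f t}).map
          (Subgroup.closure (Set.range f)).subtype by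
        obtain ⟨x, hx, e⟩ := this
        rwa [show (⟨g, hg⟩ : ↥(Subgroup.closure (Set.range f))) = x from Subtype.ext e.symm]
      refine (Subgroup.closure_le _).2 ?_ hg'
      rintro _ ⟨t, ht, rfl⟩
      exact ⟨⟨f t, Subgroup.subset_closure ⟨t, rfl⟩⟩, Subgroup.subset_closure ⟨t, ht, rfl⟩, rfl⟩
    rw [MonoidHom.range_eq_map, hgen, MonoidHom.map_closure]
    congr 1
    ext σ
    constructor
    · rintro ⟨x, ⟨t, ht, hx⟩, rfl⟩
      refine ⟨t, ht, fun i => hf ?_⟩
      show f (p x i) = _
      rw [← hp, hx, h t ht i]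
    · rintro ⟨t, ht, hσ⟩
      refine ⟨⟨f t, Subgroup.subset_closure ⟨t, rfl⟩⟩, ⟨t, ht, rfl⟩, Equiv.ext fun i => hf ?_⟩
      show f (p _ i) = _
      rw [← hp, hσ i]
      exact h t ht i

/-- two groups with the same table agree modulo their centres -/
theorem quot_center_equiv [Finite ι] {G' : Type*} [Group G'] (f : ι → G) (f' : ι → G')
    (hf : Function.Injective f) (hf' : Function.Injective f') (T : Set ι) (op : ι → ι → ι)
    (h : ∀ t ∈ T, ∀ i, f t * f i * (f t)⁻¹ = f (op t i))
    (h' : ∀ t ∈ T, ∀ i, f' t * f' i * (f' t)⁻¹ = f' (op t i)) (hr : Reaches T op) :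
    Nonempty (↥(Subgroup.closure (Set.range f)) ⧸ Subgroup.center ↥(Subgroup.closure (Set.range f)) ≃*
      ↥(Subgroup.closure (Set.range f')) ⧸ Subgroup.center ↥(Subgroup.closure (Set.range f'))) := by
  obtain ⟨ρ, hk, hi⟩ := exists_perm f hf T op h hr
  obtain ⟨ρ', hk', hi'⟩ := exists_perm f' hf' T op h' hr
  exact ⟨((QuotientGroup.quotientMulEquivOfEq hk.symm).trans (QuotientGroup.quotientKerEquivRange ρ)).trans
    ((MulEquiv.subgroupCongr (hi.trans hi'.symm)).trans
      ((QuotientGroup.quotientKerEquivRange ρ').symm.trans (QuotientGroup.quotientMulEquivOfEq hk')))⟩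

end Table

/-- isomorphic groups have isomorphic quotients by their centres -/
def centerQuotCongr {A B : Type*} [Group A] [Group B] (e : A ≃* B) :
    A ⧸ Subgroup.center A ≃* B ⧸ Subgroup.center B :=
  QuotientGroup.congr _ _ e (by
    ext y
    simp only [Subgroup.mem_map, Subgroup.mem_center_iff]
    constructor
    · rintro ⟨x, hx, rfl⟩ z
      obtain ⟨w, rfl⟩ := e.surjective z
      exact (map_mul e w x).symm.trans ((congrArg e (hx w)).trans (map_mul e x w))
    · intro hy
      refine ⟨e.symm y, fun w => e.injective ?_, e.apply_symm_apply y⟩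
      simp [hy (e w)])

section Transport

variable {G G' : Type*} [Group G] [Group G'] (e : G ≃* G') (D : Set G)

theorem image_nb (d : G) : {y : G' | y ∈ e '' D ∧ y ≠ e d ∧ Commute (e d) y} =
    e '' {y : G | y ∈ D ∧ y ≠ d ∧ Commute d y} := by
  ext y
  constructor
  · rintro ⟨⟨x, hx, rfl⟩, hne, hc⟩
    exact ⟨x, ⟨hx, fun h => hne (congrArg e h),
      e.injective (by rw [map_mul, map_mul]; exact hc)⟩, rfl⟩
  · rintro ⟨x, ⟨hx, hne, hc⟩, rfl⟩
    exact ⟨⟨x, hx, rfl⟩, fun h => hne (e.injective h), hc.map e⟩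

/-- the closures of a set and of its image -/
noncomputable def closureCongr (S : Set G) : ↥(Subgroup.closure S) ≃* ↥(Subgroup.closure (e '' S)) :=
  (e.subgroupMap (Subgroup.closure S)).trans (MulEquiv.subgroupCongr (by
    show (Subgroup.closure S).map e.toMonoidHom = _
    rw [MonoidHom.map_closure]
    rfl))

theorem coe_closureCongr (S : Set G) (x : ↥(Subgroup.closure S)) : (closureCongr e S x : G') = e x := rfl

theorem typeM22_congr (h : Cfsg.IsOfTypeM22 G D) : Cfsg.IsOfTypeM22 G' (e '' D) := by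
  obtain ⟨hz, d, hd, c, hc, hdc, ⟨F, iF, iT, hF, ⟨u⟩⟩, c₃, h3, Q, hQ, hdet, ⟨v⟩⟩ := h
  refine ⟨?_, e d, ⟨d, hd, rfl⟩, e c, ⟨c, hc, rfl⟩,
    fun h => hdc (e.injective (by rw [map_mul, map_mul]; exact h)), ?_, c₃, h3, Q, hQ, hdet, ?_⟩
  · rw [Subgroup.eq_bot_iff_forall]
    intro y hy
    obtain ⟨x, rfl⟩ := e.surjective y
    have : x ∈ Subgroup.center G := Subgroup.mem_center_iff.2 fun w => e.injective (by
      rw [map_mul, map_mul]; exact Subgroup.mem_center_iff.1 hy (e w))
    rw [hz, Subgroup.mem_bot] at this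
    rw [this, map_one]
  · exact ⟨F, iF, iT, hF, ⟨(centerQuotCongr ((closureCongr e _).trans
      (MulEquiv.subgroupCongr (congrArg Subgroup.closure (image_nb e D d).symm)))).symm.trans u⟩⟩
  · refine ⟨(centerQuotCongr ((closureCongr e _).trans
      (MulEquiv.subgroupCongr (congrArg Subgroup.closure ?_)))).symm.trans v⟩
    rw [image_nb e D d, image_nb e D c, ← Set.image_inter e.injective]

end Transport

end CfsgLib.Spor.FischerTypes
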