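import Cfsg.Agent.Lib.Spor.FischerTypes.Kit
import Cfsg.Agent.Lib.ThreeTransp.FischerRankThree
import Cfsg.Agent.Lib.ThreeTransp.ReflThree

/-!
A conjugacy class seen as a set of points; tables of reflections over the field with three elements.
-/

set_option autoImplicit false

namespace CfsgLib.Spor.FischerTypes

open scoped commutatorElement

/-- a class of elements of a group, indexed by the points of a permutation action -/
structure PointClass (G : Type*) [Group G] (n : ℕ) where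
  π : G →* Equiv.Perm (Fin n)
  z : G
  i₀ : Fin n
  trans : ∀ i, ∃ g, π g i₀ = i
  stab : ∀ g, π g i₀ = i₀ ↔ g * z = z * g

namespace PointClass

variable {G : Type*} [Group G] {n : ℕ} (P : PointClass G n)

/-- the element of a point -/
noncomputable def tp (q : Fin n) : G :=
  (P.trans q).choose * P.z * ((P.trans q).choose)⁻¹

theorem tp_of_eq {g : G} {q : Fin n} (hg : P.π g P.i₀ = q) : P.tp q = g * P.z * g⁻¹ := by
  have hc := (P.trans q).choose_spec
  set c := (P.trans q).choose with hcd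
  have e : (g⁻¹ * c) * P.z = P.z * (g⁻¹ * c) := (P.stab _).1 (by
    rw [map_mul, Equiv.Perm.mul_apply, hc, map_inv, Equiv.Perm.inv_eq_iff_eq, hg])
  rw [tp, ← hcd]
  calc c * P.z * c⁻¹ = g * ((g⁻¹ * c) * P.z) * c⁻¹ := by group
    _ = g * (P.z * (g⁻¹ * c)) * c⁻¹ := by rw [e]
    _ = g * P.z * g⁻¹ := by group

theorem tp_base : P.tp P.i₀ = P.z := by rw [P.tp_of_eq (g := 1) (by simp)]; group

theorem conj_tp (g : G) (p : Fin n) : g * P.tp p * g⁻¹ = P.tp (P.π g p) := by
  obtain ⟨c, rfl⟩ := P.trans p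
  rw [P.tp_of_eq (g := c) rfl, P.tp_of_eq (g := g * c) (by rw [map_mul, Equiv.Perm.mul_apply])]
  group

theorem tp_injective : Function.Injective P.tp := by
  intro p q h
  obtain ⟨a, rfl⟩ := P.trans p
  obtain ⟨b, rfl⟩ := P.trans q
  rw [P.tp_of_eq (g := a) rfl, P.tp_of_eq (g := b) rfl] at h
  have hfix : P.π (b⁻¹ * a) P.i₀ = P.i₀ := (P.stab _).2 (by
    calc b⁻¹ * a * P.z = b⁻¹ * (a * P.z * a⁻¹) * a := by group
      _ = b⁻¹ * (b * P.z * b⁻¹) * a := by rw [h]
      _ = P.z * (b⁻¹ * a) := by group)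
  calc P.π a P.i₀ = P.π b (P.π (b⁻¹ * a) P.i₀) := by
        rw [← Equiv.Perm.mul_apply, ← map_mul, mul_inv_cancel_left]
    _ = P.π b P.i₀ := by rw [hfix]

theorem range_tp : Set.range P.tp = conjugatesOf P.z := by
  ext y
  constructor
  · rintro ⟨q, rfl⟩
    exact isConj_iff.2 ⟨_, (rfl : (P.trans q).choose * P.z * ((P.trans q).choose)⁻¹ = P.tp q)⟩
  · intro hy
    obtain ⟨g, rfl⟩ := isConj_iff.1 hy
    exact ⟨P.π g P.i₀, P.tp_of_eq rfl⟩

theorem commute_tp_iff (g : G) (p : Fin n) : Commute g (P.tp p) ↔ P.π g p = p := by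
  show g * P.tp p = P.tp p * g ↔ _
  rw [← mul_inv_eq_iff_eq_mul, P.conj_tp]
  exact P.tp_injective.eq_iff

theorem nb_eq (p : Fin n) : {y : G | y ∈ conjugatesOf P.z ∧ y ≠ P.tp p ∧ Commute (P.tp p) y} =
    P.tp '' {q | q ≠ p ∧ P.π (P.tp p) q = q} := by
  rw [← P.range_tp]
  ext y
  constructor
  · rintro ⟨⟨q, rfl⟩, hne, hc⟩
    exact ⟨q, ⟨fun h => hne (congrArg _ h), (P.commute_tp_iff _ _).1 hc⟩, rfl⟩
  · rintro ⟨q, ⟨hne, hq⟩, rfl⟩
    exact ⟨⟨q, rfl⟩, fun h => hne (P.tp_injective h), (P.commute_tp_iff _ _).2 hq⟩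

theorem nb_inter_eq (p p' : Fin n) :
    {y : G | y ∈ conjugatesOf P.z ∧ y ≠ P.tp p ∧ Commute (P.tp p) y} ∩
      {y : G | y ∈ conjugatesOf P.z ∧ y ≠ P.tp p' ∧ Commute (P.tp p') y} =
    P.tp '' {q | (q ≠ p ∧ P.π (P.tp p) q = q) ∧ (q ≠ p' ∧ P.π (P.tp p') q = q)} := by
  rw [P.nb_eq, P.nb_eq, ← Set.image_inter P.tp_injective]
  rfl

end PointClass

/-- a class generating a simple non-abelian group is primitive -/
theorem primitive_of_simple {G : Type*} [Group G] [Finite G] [IsSimpleGroup G] {D : Set G}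
    (hD : Cfsg.IsThreeTranspositionClass D) (hna : ∃ x y : G, x * y ≠ y * x) :
    Cfsg.IsPrimitiveUnderConj D ∧ Subgroup.center G = ⊥ := by
  obtain ⟨x, y, hxy⟩ := hna
  have hc : commutator G = ⊤ := by
    refine (Subgroup.Normal.eq_bot_or_eq_top inferInstance).resolve_left fun h => hxy ?_
    have hm : ⁅x, y⁆ ∈ commutator G :=
      Subgroup.commutator_mem_commutator (Subgroup.mem_top x) (Subgroup.mem_top y)
    rw [h, Subgroup.mem_bot] at hm
    exact commutatorElement_eq_one_iff_commute.1 hm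
  have h2 : ∃ a ∈ D, ∃ b ∈ D, a ≠ b := by
    by_contra h
    push Not at h
    apply hxy
    have hcomm : ∀ a ∈ D, ∀ b ∈ D, a * b = b * a := fun a ha b hb => by rw [h a ha b hb]
    have hx : x ∈ Subgroup.closure D := hD.2.2 ▸ Subgroup.mem_top x
    have hy : y ∈ Subgroup.closure D := hD.2.2 ▸ Subgroup.mem_top y
    exact congrArg Subtype.val ((Subgroup.isMulCommutative_closure hcomm).is_comm.comm ⟨x, hx⟩ ⟨y, hy⟩)
  let e : ↥(commutator G) ≃* G := (MulEquiv.subgroupCongr hc).trans Subgroup.topEquiv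
  haveI : Nontrivial ↥(commutator G) := e.toEquiv.nontrivial
  haveI : IsSimpleGroup ↥(commutator G) := IsSimpleGroup.isSimpleGroup_of_surjective e.symm.toMonoidHom e.symm.surjective
  refine ⟨((ThreeTransp.tclass_of_class hD h2).primitive_of_simple_commutator inferInstance
    ⟨e.symm x, e.symm y, fun h => hxy (by simpa using congrArg e h)⟩).1, ?_⟩
  refine ((inferInstance : (Subgroup.center G).Normal).eq_bot_or_eq_top).resolve_right fun h => hxy ?_
  exact (Subgroup.mem_center_iff.1 (h ▸ Subgroup.mem_top y) x)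

theorem two_mul_two3 : (2 : ZMod 3) * 2 = 1 := by decide

theorem two_eq3 : (2 : ZMod 3) = -1 := by decide

open QuadraticMap CfsgLib.Geometry CfsgLib.ThreeTransp

variable [Fact (Nat.Prime 3)] {N : ℕ} (Q : QuadraticForm (ZMod 3) (Fin N → ZMod 3)) {c : ZMod 3}

/-- a table of vectors of one norm, one for each line, with the actions of some of their reflections -/
theorem refl_table (hc : c ≠ 0) {ι : Type*} (v : ι → Fin N → ZMod 3) (hv : ∀ i, Q (v i) = c)
    (hinj : ∀ i j, v j = v i ∨ v j = -v i → i = j)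
    (hall : ∀ u, Q u = c → ∃ i, u = v i ∨ u = -v i) (T : Set ι) (op : ι → ι → ι)
    (hop : ∀ t ∈ T, ∀ i, v i - ((Q (v t))⁻¹ * polar Q (v i) (v t)) • v t = v (op t i) ∨
      v i - ((Q (v t))⁻¹ * polar Q (v i) (v t)) • v t = -v (op t i)) :
    ∃ f : ι → ↥(Cfsg.isometryGroup (ZMod 3) (⇑Q)), Function.Injective f ∧
      Cfsg.reflectionsOfNorm (⇑Q) c = Set.range f ∧
      ∀ t ∈ T, ∀ i, f t * f i * (f t)⁻¹ = f (op t i) := by
  have h0 : ∀ i, Q (v i) ≠ 0 := fun i => (hv i).symm ▸ hc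
  let f : ι → ↥(Cfsg.isometryGroup (ZMod 3) (⇑Q)) := fun i => (isomEquiv Q).symm (oRefl Q (v i) (h0 i))
  have hf : ∀ i, (isomEquiv Q (f i) : (Fin N → ZMod 3) ≃ₗ[ZMod 3] (Fin N → ZMod 3)) = refl Q (v i) (h0 i) :=
    fun i => by simp [f, oRefl]
  have hneg : ∀ i (h : Q (-v i) ≠ 0), refl Q (-v i) h = refl Q (v i) (h0 i) := fun i h => by
    have h' : Q ((-1 : ZMod 3) • v i) ≠ 0 := by rwa [neg_one_smul]
    have e := refl_smul Q (v i) (h0 i) (show (-1 : ZMod 3) ≠ 0 by simp) h'
    simp only [neg_one_smul] at e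
    exact e
  refine ⟨f, fun i j hij => hinj i j ?_, ?_, fun t ht i => ?_⟩
  · have e : refl Q (v i) (h0 i) = refl Q (v j) (h0 j) := by rw [← hf i, ← hf j, hij]
    have e1 : refl Q (v i) (h0 i) (v j) = -(v j) := by rw [e, refl_self]
    rw [refl_apply, sub_eq_iff_eq_add] at e1
    generalize (Q (v i))⁻¹ * polar Q (v j) (v i) = b at e1
    have e2 : (2 : ZMod 3) • v j = b • v i := by
      rw [two_smul]
      nth_rewrite 2 [e1]
      abel
    have e3 : v j = (-b) • v i := by
      have e4 := congrArg (fun x => (2 : ZMod 3) • x) e2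
      simp only [smul_smul] at e4
      rw [two_mul_two3, one_smul, two_eq3, neg_one_mul] at e4
      exact e4
    rcases ReflThree.z3_cases (-b) with hb | hb | hb
    · exfalso
      rw [hb, zero_smul] at e3
      exact h0 j (by rw [e3, QuadraticMap.map_zero])
    · exact Or.inl (by rw [e3, hb, one_smul])
    · exact Or.inr (by rw [e3, hb, neg_one_smul])
  · ext g
    constructor
    · rintro ⟨u, hu, hg⟩
      obtain ⟨i, hi⟩ := hall u hu
      refine ⟨i, (isomEquiv Q).injective (Subtype.ext ?_)⟩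
      rw [hf, (isomEquiv_eq_refl_iff Q g u (hu ▸ hc)).1 hg]
      rcases hi with rfl | rfl
      · rfl
      · exact (hneg i _).symm
    · rintro ⟨i, rfl⟩
      exact ⟨v i, hv i, (isomEquiv_eq_refl_iff Q (f i) (v i) (h0 i)).2 (hf i)⟩
  · refine (isomEquiv Q).injective (Subtype.ext ?_)
    rw [map_mul, map_mul, map_inv]
    simp only [Subgroup.coe_mul, InvMemClass.coe_inv, hf]
    rw [refl_conj Q (refl_mem_orth Q (v t) (h0 t))]
    have e := hop t ht i
    rw [← refl_apply Q (v t) (h0 t) (v i)] at e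
    rcases e with e | e
    · simp only [e]
    · simp only [e]
      exact hneg _ _

end CfsgLib.Spor.FischerTypes
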